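import Cfsg.Agent.Lib.Rk2.SC

/-! Class sizes `1, p ^ a, p ^ a q ^ b`: there is a `p`-element with class of size `p ^ a`. -/

set_option autoImplicit false

namespace CfsgLib.Rk2

open Subgroup Cfsg CfsgLib.H5.TwoCls CfsgLib.BSW
open scoped commutatorElement

variable {G : Type*} [Group G] [Finite G]

local notation "ix" g:max => Subgroup.index (centralizer ({g} : Set G))
local notation "rx" g:max => Subgroup.relIndex (center G) (centralizer ({g} : Set G))
local notation "𝐂" g:max => centralizer ({g} : Set G)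

variable (G) in
structure Bad (m n p q : ℕ) : Prop extends NF G m n where
  hp : p.Prime
  hq : q.Prime
  hpq : p ≠ q
  two : ∀ r : ℕ, r.Prime → r ∣ (center G).index → r = p ∨ r = q
  pm : p ∣ m
  qn : q ∣ n
  hm : ∀ r : ℕ, r.Prime → r ∣ m → r = p
  hn' : ∀ r : ℕ, r.Prime → r ∣ n → r = q
  big : ∀ w : G, (∃ k, orderOf w = p ^ k) → w ∉ center G → ix w = m * n
  small : ∃ y ∉ center G, ix y = m

namespace Bad

variable {m n p q : ℕ} (h : Bad G m n p q)
include h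

omit [Finite G] in
theorem cop {u w : G} (hu : ∃ k, orderOf u = q ^ k) (hw : ∃ k, orderOf w = p ^ k) :
    (orderOf u).Coprime (orderOf w) := by
  obtain ⟨i, hi⟩ := hu
  obtain ⟨j, hj⟩ := hw
  rw [hi, hj]
  exact Nat.coprime_pow_primes _ _ h.hq h.hp h.hpq.symm

theorem le_of_cop {w u : G} (hw : ∃ k, orderOf w = p ^ k) (hwZ : w ∉ center G) (hu : u ∈ 𝐂 w)
    (hc : (orderOf u).Coprime (orderOf w)) : 𝐂 w ≤ 𝐂 u := by
  have h1 := Frob.centralizer_mul_of_coprime (mem_cent.1 hu) hc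
  rw [← h.eq_of_big hwZ (h.big w hw hwZ) (h1.le.trans inf_le_right)]
  exact h1.le.trans inf_le_left

theorem q_of_small {y : G} {r k : ℕ} (hr : r.Prime) (hk : orderOf y = r ^ k) (hyZ : y ∉ center G)
    (hy : ix y = m) : ∃ k, orderOf y = q ^ k := by
  rcases h.two r hr (dvd_index_center hr hk hyZ) with rfl | rfl
  · have h1 := h.big y ⟨k, hk⟩ hyZ
    have h0 : 0 < ix y := Nat.pos_of_ne_zero index_ne_zero_of_finite
    have := h.hn
    nlinarith
  · exact ⟨k, hk⟩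

theorem exists_q {w : G} (hw : ∃ k, orderOf w = p ^ k) (hwZ : w ∉ center G) :
    ∃ u ∈ 𝐂 w, (∃ k, orderOf u = q ^ k) ∧ u ∉ center G := by
  obtain ⟨y, hyZ, hy⟩ := h.small
  obtain ⟨y', hy', r, j, hr, hj, hyZ'⟩ := exists_part hyZ
  rw [h.eq_of_small hy hyZ' (Frob.centralizer_le_centralizer_of_mem_zpowers hy')] at hy
  have h1 := h.q_of_small hr hj hyZ' hy
  obtain ⟨k, hk⟩ := hw
  have h2 : p ∣ rx y' := by
    have h3 := relIndex_center_mul y'
    rw [← relIndex_center_mul w, hy, h.big w ⟨k, hk⟩ hwZ, mul_comm m, ← mul_assoc] at h3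
    rw [Nat.eq_of_mul_eq_mul_right (hy ▸ Nat.pos_of_ne_zero index_ne_zero_of_finite) h3]
    exact (dvd_relIndex_center h.hp hk hwZ (self_mem_cent w)).mul_right _
  obtain ⟨w', hw', hw1, hwZ'⟩ := H5.exists_primePow_notMem_of_dvd_relIndex h.hp h2
  obtain ⟨i, hi⟩ := h1
  refine H5.exists_primePow_notMem_of_dvd_relIndex h.hq ?_
  rw [rx_congr ((h.big w ⟨k, hk⟩ hwZ).trans (h.big w' hw1 hwZ').symm)]
  exact dvd_relIndex_center h.hq hi hyZ' (mem_cent_comm hw')

theorem comm_of_small {y : G} (hy1 : ∃ k, orderOf y = q ^ k) (hyZ : y ∉ center G) (hy : ix y = m)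
    {T : Subgroup G} (hT : IsPGroup p T) (hTy : T ≤ 𝐂 y) : ∀ a ∈ T, ∀ b ∈ T, a * b = b * a := by
  have := Fact.mk h.hp
  obtain ⟨j, hj⟩ := hy1
  obtain ⟨i, hi⟩ := exists_pow_of_forall_prime h.hq (by have := h.hn; omega) h.hn'
  obtain ⟨A, hA, h1, -, k, hk⟩ := exists_compl h.hq fun u hu =>
    (h.rel' hyZ hy hj u hu).elim (fun e => ⟨0, e⟩) fun e => ⟨i, e.trans hi⟩
  obtain ⟨S, hS⟩ := IsSylowIn.exists_in (p := p) A
  have hS' : IsSylowIn p S (𝐂 y) := ⟨hS.le.trans hA, hS.isPGroup, by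
    obtain ⟨l, hl⟩ := relIndex_pow h.hq hk hA le_rfl
    rw [← relIndex_mul_relIndex S A _ hS.le hA, hl, h.hp.dvd_mul]
    rintro (e | e)
    exacts [hS.not_dvd e,
      h.hpq ((Nat.prime_dvd_prime_iff_eq h.hp h.hq).1 (h.hp.dvd_of_dvd_pow e))]⟩
  obtain ⟨x, -, hx⟩ := hS'.exists_conj_le hT hTy
  intro a ha b hb
  have h2 := BSW.isMulCommutative_iff'.1 h1 _ (hS.le (hx (conj_mem_map_conj ha))) _
    (hS.le (hx (conj_mem_map_conj hb)))
  rwa [conj_mul, conj_mul, mul_left_inj, mul_right_inj] at h2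

theorem comm {w : G} (hw : ∃ k, orderOf w = p ^ k) (hwZ : w ∉ center G) :
    IsMulCommutative (𝐂 w) := by
  have := Fact.mk h.hp
  obtain ⟨u, hu, hu1, huZ⟩ := h.exists_q hw hwZ
  have h1 := h.le_of_cop hw hwZ hu (h.cop hu1 hw)
  have h0 : ∀ v ∈ 𝐂 w, ∀ c l : ℕ, c.Prime → c ≠ p → orderOf v = c ^ l → 𝐂 w ≤ 𝐂 v :=
    fun v hv c l hc hcp hl => h.le_of_cop hw hwZ hv (by
      obtain ⟨k, hk⟩ := hw
      rw [hk, hl]; exact Nat.coprime_pow_primes _ _ hc h.hp hcp)
  have h2 : 𝐂 w ≤ centralizer (𝐂 w : Set G) := by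
    refine le_of_forall_primePow_mem fun v hv c l hc hl => mem_centralizer_iff.2 fun g hg =>
      mem_cent.1 ?_
    by_cases e : c = p
    swap
    · exact h0 v hv c l hc e hl hg
    subst e
    by_cases hvZ : v ∈ center G
    · exact center_le_centralizer _ hvZ |> mem_cent_comm
    rcases h.idx u huZ with e | e
    · obtain ⟨S, hvS, hS⟩ := IsSylowIn.exists_ge (isPGroup_zpowers_iff.2 ⟨l, hl⟩) (zpowers_le.2 hv)
      have h3 : (𝐂 v).relIndex (𝐂 w) = 1 := by
        by_contra hne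
        obtain ⟨t, ht, hd⟩ := Nat.exists_prime_and_dvd hne
        by_cases e' : t = c
        · exact hS.not_dvd (e' ▸ hd.trans (relIndex_dvd_of_le_left _ fun x hx => mem_cent.2
            (h.comm_of_small hu1 huZ e hS.isPGroup (hS.le.trans h1) x hx v
              (hvS (mem_zpowers v)))))
        · obtain ⟨x, hx, ⟨i, hi⟩, hxv⟩ := H5.exists_primePow_notMem_of_dvd_relIndex ht hd
          exact hxv (mem_cent_comm (h0 x hx t i ht e' hi hv))
      exact relIndex_eq_one.1 h3 hg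
    · have h3 := h.eq_of_big huZ e
        (h.le_of_cop ⟨l, hl⟩ hvZ (mem_cent_comm (h1 hv)) (h.cop hu1 ⟨l, hl⟩))
      rw [h3]
      exact h1 hg
  exact BSW.isMulCommutative_iff'.2 fun a ha b hb => mem_centralizer_iff.1 (h2 hb) a ha

theorem le_cent {w a : G} (hw : ∃ k, orderOf w = p ^ k) (hwZ : w ∉ center G) (ha : a ∈ 𝐂 w) :
    𝐂 w ≤ 𝐂 a := fun g hg => mem_cent.2 (BSW.isMulCommutative_iff'.1 (h.comm hw hwZ) g hg a ha)

theorem cent_eq {w a : G} (hw : ∃ k, orderOf w = p ^ k) (hwZ : w ∉ center G) (ha : a ∈ 𝐂 w)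
    (haZ : a ∉ center G) (ha1 : ix a = m * n) : 𝐂 a = 𝐂 w :=
  (h.eq_of_big haZ ha1 (h.le_cent hw hwZ ha)).symm

theorem exists_small {w : G} (hw : ∃ k, orderOf w = p ^ k) (hwZ : w ∉ center G) :
    ∃ u ∈ 𝐂 w, (∃ k, orderOf u = q ^ k) ∧ u ∉ center G ∧ ix u = m := by
  by_contra! hcon
  obtain ⟨u, hu, ⟨j, hj⟩, huZ⟩ := h.exists_q hw hwZ
  have hb := h.big w hw hwZ
  obtain ⟨k, hk⟩ := id hw
  refine false_of_two_primes (S := Set.univ) (A := 𝐂 w) (C := 𝐂 w) (fun _ _ _ => trivial)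
    (fun _ => by simp) (fun a ha haZ => h.cent_eq hw hwZ ha haZ ?_) h.hp h.hq h.hpq
    (hb ▸ h.pm.mul_right n) (hb ▸ h.qn.mul_left m)
    ⟨w, self_mem_cent w, hwZ, k, hk ▸ pow_orderOf_eq_one w⟩ ⟨u, hu, huZ, j, hj ▸ pow_orderOf_eq_one u⟩
  refine (h.idx a haZ).resolve_left fun e => ?_
  obtain ⟨y, hy, r, i, hr, hi, hyZ⟩ := exists_part haZ
  rw [h.eq_of_small e hyZ (Frob.centralizer_le_centralizer_of_mem_zpowers hy)] at e
  exact hcon y (zpowers_le.2 ha hy) (h.q_of_small hr hi hyZ e) hyZ e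

theorem fix {w b a : G} (hw : ∃ k, orderOf w = p ^ k) (hwZ : w ∉ center G)
    (hb : ∃ k, orderOf b = p ^ k) (hbN : b ∈ normalizer ((𝐂 w : Subgroup G) : Set G))
    (hbw : b ∉ 𝐂 w) (ha : a ∈ 𝐂 w) (hab : b * a = a * b) : a ∈ center G := by
  have := Fact.mk h.hp
  by_contra haZ
  obtain ⟨y, hy, r, i, hr, hi, hyZ⟩ := exists_part haZ
  have hyw : y ∈ 𝐂 w := zpowers_le.2 ha hy
  have hby : b ∈ 𝐂 y := Frob.centralizer_le_centralizer_of_mem_zpowers hy (mem_cent.2 hab)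
  rcases h.idx y hyZ with e | e
  · obtain ⟨S, hS, hS1, hS2, hS3⟩ := exists_pPart h.hp (h.comm hw hwZ)
    exact hbw (mem_cent.2 (h.comm_of_small (h.q_of_small hr hi hyZ e) hyZ e (T := zpowers b ⊔ S)
      ((isPGroup_zpowers_iff.2 hb).to_sup_of_normal_right' hS1 (zpowers_le.2 (hS3 hbN)))
      (sup_le (zpowers_le.2 hby) (hS.trans (h.le_cent hw hwZ hyw))) b
      (mem_sup_left (mem_zpowers b)) w (mem_sup_right (hS2 w (self_mem_cent w) hw))))
  · exact hbw (h.cent_eq hw hwZ hyw hyZ e ▸ hby)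

theorem mem_of_norm {w b u : G} (hw : ∃ k, orderOf w = p ^ k) (hwZ : w ∉ center G)
    (hb : ∃ k, orderOf b = p ^ k) (hbN : b ∈ normalizer ((𝐂 w : Subgroup G) : Set G))
    (hbw : b ∉ 𝐂 w) (hu : ∃ k, orderOf u = q ^ k)
    (huN : u ∈ normalizer ((𝐂 w : Subgroup G) : Set G)) (hub : u ∈ 𝐂 b) : u ∈ 𝐂 w := by
  have := Fact.mk h.hp
  obtain ⟨S, hS, hS1, hS2, hS3⟩ := exists_pPart h.hp (h.comm hw hwZ)
  have h1 := zpowers_le.2 (hS3 huN)
  obtain ⟨j, hj⟩ := hu
  have h2 := Cop.commutator_inf_centralizer_eq_bot h1 (Cop.coprime_card_of_isPGroup (by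
    rw [Nat.card_zpowers, hj]
    exact ((Nat.coprime_primes h.hq h.hp).2 h.hpq.symm).pow_left j) hS1)
    (BSW.isMulCommutative_iff'.2 fun a ha b hb =>
      BSW.isMulCommutative_iff'.1 (h.comm hw hwZ) a (hS ha) b (hS hb))
  have h3 := Cop.commutator_le_left_of_le_normalizer h1
  have h4 : ⁅S, zpowers u⁆ = ⊥ := by
    by_contra hne
    obtain ⟨x, hx, hx1, hxb⟩ := Part.exists_fixed (hS1.to_le h3) hne (y := b)
      (Cop.le_normalizer_commutator (B := zpowers b) (zpowers_le.2 (hS3 hbN)) (zpowers_le.2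
        (centralizer_le_normalizer _ (by rw [centralizer_zpowers']; exact mem_cent_comm hub)))
        (mem_zpowers b)) hb
    exact hx1 (h2.le ⟨hx, center_le_centralizer _ (h.fix hw hwZ hb hbN hbw (hS (h3 hx)) hxb)⟩)
  exact mem_cent.2 (mem_centralizer_iff.1 (Cop.commutator_eq_bot_iff_le_centralizer'.1 h4
    (mem_zpowers u)) w (hS2 w (self_mem_cent w) hw)).symm

theorem pCore_le : pCore p G ≤ center G := by
  have := Fact.mk h.hp
  have := Fact.mk h.hq
  intro w hwO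
  by_contra hwZ
  have hO := fun x (hx : x ∈ pCore p G) => orderOf_of_mem (pCore_isPGroup p) hx
  have hw := hO w hwO
  have hc := BSW.isMulCommutative_iff'.1 (h.comm hw hwZ)
  obtain ⟨u, hu, hu1, huZ, hum⟩ := h.exists_small hw hwZ
  have h1 : pCore p G ≤ 𝐂 w := by
    by_contra hne
    obtain ⟨b, hb0, hb⟩ := SetLike.exists_of_lt (lt_inf_normalizer_of_isPGroup
      (pCore_isPGroup p) (lt_of_le_of_ne (inf_le_left : pCore p G ⊓ 𝐂 w ≤ _)
        fun e => hne (e ▸ inf_le_right)))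
    obtain ⟨hbO, hbN⟩ := mem_inf.1 hb0
    have h2 : centralizer ((pCore p G ⊓ 𝐂 w : Subgroup G) : Set G) = 𝐂 w := le_antisymm
      (fun g hg => mem_cent.2 (mem_centralizer_iff.1 hg w (mem_inf.2 ⟨hwO, self_mem_cent w⟩)).symm)
      fun g hg => mem_centralizer_iff.2 fun x hx => hc x hx.2 g hg
    have h3 := Cop.normalizer_le_normalizer_centralizer _ hbN
    rw [h2] at h3
    have h4 := conj_mem_of_mem_normalizer h3 hu
    obtain ⟨j, hj⟩ := id hu1
    have h5 : (b * u * b⁻¹ * u⁻¹) ^ q ^ j = 1 := by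
      rw [Commute.mul_pow (hc _ h4 _ (inv_mem hu)), conj_pow, inv_pow, ← hj, pow_orderOf_eq_one]
      simp
    have h6 : b * u * b⁻¹ * u⁻¹ ∈ pCore p G := by
      rw [mul_assoc, mul_assoc, ← mul_assoc u]
      exact mul_mem hbO (Normal.conj_mem inferInstance _ (inv_mem hbO) u)
    have h7 := H5.eq_one_of_mem_of_coprime (pCore_isPGroup p) h6
      ((((Nat.coprime_primes h.hq h.hp).2 h.hpq.symm).pow_left j).coprime_dvd_left
        (orderOf_dvd_of_pow_eq_one h5))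
    rw [mul_inv_eq_one, mul_inv_eq_iff_eq_mul] at h7
    exact hb ⟨hbO, mem_cent.2 (h.comm_of_small hu1 huZ hum (T := pCore p G ⊓ 𝐂 u)
      (pCore_isPGroup p).to_inf_left inf_le_right b ⟨hbO, mem_cent.2 h7⟩ w
      ⟨hwO, mem_cent_comm hu⟩)⟩
  have h2 : ∀ g : G, g ∈ normalizer ((𝐂 w : Subgroup G) : Set G) := fun g => by
    have h3 := Normal.conj_mem inferInstance w hwO g
    refine mem_normalizer_of_map_conj_eq ?_
    rw [← Frob.centralizer_conj_singleton]
    exact h.cent_eq hw hwZ (h1 h3) (conj_notMem_center hwZ)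
      (h.big _ (hO _ h3) (conj_notMem_center hwZ))
  obtain ⟨b, -, hb, hbw⟩ := H5.exists_primePow_notMem_of_dvd_relIndex (C := 𝐂 w) (N := ⊤) h.hp
    (by rw [relIndex_top_right, h.big w hw hwZ]; exact h.pm.mul_right n)
  obtain ⟨v, hv, hv1, hvZ⟩ := h.exists_q hb fun e => hbw (center_le_centralizer _ e)
  exact hvZ (h.fix hw hwZ hb (h2 b) hbw (h.mem_of_norm hw hwZ hb (h2 b) hbw hv1 (h2 v) hv)
    (mem_cent.1 hv).symm)

theorem mem_pCore {y : G} (hy1 : ∃ k, orderOf y = q ^ k) (hy : ix y = m) : y ∈ pCore q G := by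
  have := Fact.mk h.hp
  have := Fact.mk h.hq
  have h1 := (Chr.mem_fitting_inf_centralizer_of_class_prime_pow (pCore_quotient_pCore (G := G) p)
    (x := (y : G ⧸ pCore p G)) (exists_pow_of_forall_prime h.hp index_ne_zero_of_finite
      fun r hr hd => h.hm r hr (hd.trans (hy ▸ Frob.index_centralizer_mk_dvd _ y)))).1
  set X := (fittingSubgroup (G ⧸ pCore p G)).comap (QuotientGroup.mk' (pCore p G)) with hX
  have hnil : Group.IsNilpotent X := by
    have := fitting_isNilpotent (G := G ⧸ pCore p G)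
    refine Subgroup.isNilpotent_of_ker_le_center
      (((QuotientGroup.mk' (pCore p G)).comp X.subtype).codRestrict
        (fittingSubgroup (G ⧸ pCore p G)) fun d => d.2) fun d hd => ?_
    have h2 : (d : G) ∈ center G :=
      h.pCore_le ((QuotientGroup.eq_one_iff _).1 (congrArg Subtype.val hd))
    exact mem_center_iff.2 fun g => Subtype.ext (mem_center_iff.1 h2 g)
  exact le_pCore_of_le_fitting ((zpowers_le.2 (show y ∈ X from h1)).trans (le_fitting hnil))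
    (isPGroup_zpowers_iff.2 hy1) (mem_zpowers y)

theorem false : False := by
  have := Fact.mk h.hp
  have := Fact.mk h.hq
  have hqp := (Nat.coprime_primes h.hq h.hp).2 h.hpq.symm
  have hsolv := isSolvable_of_two_primes (G := G ⧸ center G) h.hp h.hq h.two
  let f : G →* (G ⧸ center G) ⧸ pPrimeCore p (G ⧸ center G) :=
    (QuotientGroup.mk' _).comp (QuotientGroup.mk' _)
  have hf : Function.Surjective f :=
    (QuotientGroup.mk'_surjective _).comp (QuotientGroup.mk'_surjective _)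
  have hR : ∀ g, g ∈ f.ker ↔ QuotientGroup.mk' (center G) g ∈ pPrimeCore p (G ⧸ center G) :=
    fun g => QuotientGroup.eq_one_iff (QuotientGroup.mk' (center G) g)
  have hZR : center G ≤ f.ker := fun z hz => (hR z).2 (by
    rw [show QuotientGroup.mk' (center G) z = 1 from (QuotientGroup.eq_one_iff z).2 hz]
    exact one_mem _)
  have hRZ : ((center G).relIndex f.ker).Coprime p := by
    rw [← card_map_mk'_eq_relIndex]
    refine (pPrimeCore_coprime (G := G ⧸ center G) p).coprime_dvd_left (card_dvd_of_le ?_)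
    rintro _ ⟨g, hg, rfl⟩
    exact (hR g).1 hg
  have hm0 : m ≠ 0 := by
    obtain ⟨y, -, hy⟩ := h.small
    exact hy ▸ index_ne_zero_of_finite
  obtain ⟨α, hα⟩ := exists_pow_of_forall_prime h.hp hm0 h.hm
  obtain ⟨β, hβ⟩ := exists_pow_of_forall_prime h.hq (by have := h.hn; omega) h.hn'
  obtain ⟨V, hV, hVq, hV1, hVn⟩ := exists_pPart h.hq
    (D := f.ker ⊓ centralizer (f.ker : Set G)) (BSW.isMulCommutative_iff'.2
      fun a ha b hb => mem_centralizer_iff.1 hb.2 a ha.1)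
  rw [normalizer_eq_top, top_le_iff, normalizer_eq_top_iff] at hVn
  have hVc : IsMulCommutative V := BSW.isMulCommutative_iff'.2
    fun a ha b hb => mem_centralizer_iff.1 (hV hb).2 a (hV ha).1
  have hsm : ∀ y : G, (∃ k, orderOf y = q ^ k) → ix y = m → y ∈ V := fun y hy1 hy => by
    refine hV1 y ⟨(hR y).2 ?_, mem_centralizer_iff.2 fun g hg => mem_cent.1 ?_⟩ hy1
    · have := (pCore_normal q G).map _ (QuotientGroup.mk'_surjective (center G))
      obtain ⟨k, hk⟩ := ((pCore_isPGroup (G := G) q).map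
        (QuotientGroup.mk' (center G))).exists_card_eq
      exact le_pPrimeCore (hk ▸ hqp.pow_left k) (mem_map_of_mem _ (h.mem_pCore hy1 hy))
    · refine relIndex_eq_one.1 (Nat.eq_one_of_dvd_coprimes (hRZ.pow_right α)
        (relIndex_dvd_of_le_left _ (center_le_centralizer _)) ?_) hg
      rw [← hα, ← hy]
      exact Frob.relIndex_normal_dvd_index _ _
  have hT := centralizer_pCore_le (p := p)
    (G := (G ⧸ center G) ⧸ pPrimeCore p (G ⧸ center G)) (isPSolvable_of_isSolvable inferInstance)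
    (pPrimeCore_quotient_pPrimeCore p)
  set T := (pCore p ((G ⧸ center G) ⧸ pPrimeCore p (G ⧸ center G))).comap f with hTdef
  obtain ⟨P⟩ : Nonempty (Sylow p G) := inferInstance
  have hPe := fun x (hx : x ∈ (P : Subgroup G)) => orderOf_of_mem P.2 hx
  have hTP : ∀ t ∈ pCore p ((G ⧸ center G) ⧸ pPrimeCore p (G ⧸ center G)),
      ∃ b ∈ (P : Subgroup G) ⊓ T, f b = t := fun t ht => by
    obtain ⟨b, hb, e⟩ : t ∈ (P : Subgroup G).map f := pCore_le_sylow (P.mapSurjective hf) ht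
    exact ⟨b, ⟨hb, show f b ∈ _ from e ▸ ht⟩, e⟩
  obtain ⟨z, hzP, hzT, hzZ, hz1, hz2⟩ := exists_second_center P.2 (T := T) fun hle => by
    have h1 : f.ker = ⊤ := eq_top_iff.2 fun g _ => by
      obtain ⟨b, hb, e⟩ := hTP (f g) (hT (mem_centralizer_iff.2 fun t ht => by
        obtain ⟨c, hc, rfl⟩ := hTP t ht
        rw [hZR (hle hc), one_mul, mul_one]))
      exact e.symm.trans (hZR (hle hb))
    obtain ⟨y, hyZ, hy⟩ := h.small
    rw [h1, relIndex_top_right] at hRZ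
    exact h.hp.one_lt.ne' (Nat.eq_one_of_dvd_coprimes hRZ
      (h.pm.trans (hy ▸ index_dvd_of_le (center_le_centralizer _))) dvd_rfl)
  have hz := hPe z hzP
  have hPD : (P : Subgroup G) ≤ normalizer ((𝐂 z : Subgroup G) : Set G) := fun g hg =>
    cent_conj_of_center (hz2 g hg)
  have hfix := fun g (hg : g ∈ (P : Subgroup G)) hgz a ha e =>
    h.fix (a := a) hz hzZ (hPe g hg) (hPD hg) hgz ha e
  obtain ⟨v₁, hv₁, hv₁q, hv₁Z, hv₁m⟩ := h.exists_small hz hzZ
  have hmp : m ∣ p := by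
    obtain ⟨W, hW, hWq, hW1, hWn⟩ := exists_pPart h.hq (h.comm hz hzZ)
    obtain ⟨k, hk⟩ := hWq.exists_card_eq
    refine Dvd.dvd.trans ?_ (relIndex_dvd_prime P.2 hz1 hz2 (hk ▸ hqp.pow_left k) (hPD.trans hWn)
      (fun g _ hg => mem_centralizer_iff.2 fun x hx =>
        BSW.isMulCommutative_iff'.1 (h.comm hz hzZ) x (hW hx) g hg)
      (fun g hg hgz w hw e => hfix g hg hgz w (hW hw) e) fun hle => hv₁Z (hle (hW1 _ hv₁ hv₁q)))
    rw [hα]
    exact pow_dvd_relIndex P (by rw [h.big z hz hzZ, ← hα]; exact dvd_mul_right _ _)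
  obtain ⟨b, hbP, hbz⟩ := SetLike.not_le_iff_exists.1 fun hle : (P : Subgroup G) ≤ 𝐂 z =>
    P.not_dvd_index ((h.big z hz hzZ ▸ h.pm.mul_right n).trans (index_dvd_of_le hle))
  obtain ⟨y, hyb, hyq, hyZ, hym⟩ := h.exists_small (hPe b hbP)
    fun e => hbz (center_le_centralizer _ e)
  have hyz : y ∉ 𝐂 z := fun e => hyZ (hfix b hbP hbz y e (mem_cent.1 hyb).symm)
  have hbot : ∀ x ∈ ⁅V, zpowers z⁆, x ∈ 𝐂 z → x = 1 := fun x hx hxz => by
    obtain ⟨k, hk⟩ := hVq.exists_card_eq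
    obtain ⟨j, hj⟩ := hz
    exact (Cop.commutator_inf_centralizer_eq_bot (A := zpowers z) le_normalizer_of_normal (by
      rw [hk, Nat.card_zpowers, hj]
      exact Nat.coprime_pow_primes _ _ h.hp h.hq h.hpq) hVc).le
      ⟨hx, by rw [centralizer_zpowers']; exact hxz⟩
  have hyV := hsm y hyq hym
  have hv₂ : ⁅y, z⁆ ∈ ⁅V, zpowers z⁆ := commutator_mem_commutator hyV (mem_zpowers z)
  have hv₂z : ⁅y, z⁆ ∉ 𝐂 z := fun e =>
    hyz (mem_cent.2 (commutatorElement_eq_one_iff_mul_comm.1 (hbot _ hv₂ e)))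
  have hvV : v₁ * ⁅y, z⁆ ∈ V := mul_mem (hsm _ hv₁q hv₁m) (commutator_le_left V _ hv₂)
  have hPv : ∀ g ∈ (P : Subgroup G), g ∈ 𝐂 (v₁ * ⁅y, z⁆) → g ∈ center G := fun g hg hgv => by
    have h1 : g * ⁅y, z⁆ * g⁻¹ ∈ ⁅V, zpowers z⁆ := by
      obtain ⟨c, hc, e⟩ := conj_eq_of_center (hz2 g hg)
      have h2 : ⁅g * y * g⁻¹, c * z⁆ = ⁅g * y * g⁻¹, z⁆ := by
        generalize g * y * g⁻¹ = Y
        simp only [commutatorElement_def]
        calc Y * (c * z) * Y⁻¹ * (c * z)⁻¹ = Y * c * (z * Y⁻¹ * z⁻¹) * c⁻¹ := by group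
          _ = _ := by rw [mul_assoc Y, ← mem_center_iff.1 hc]; group
      rw [conjugate_commutatorElement, e, h2]
      exact commutator_mem_commutator (hVn.conj_mem y hyV g) (mem_zpowers z)
    have h2 : v₁⁻¹ * (g * v₁ * g⁻¹) = ⁅y, z⁆ * (g * ⁅y, z⁆ * g⁻¹)⁻¹ := by
      have h3 := mem_cent.1 hgv
      generalize ⁅y, z⁆ = v₂ at h3
      calc v₁⁻¹ * (g * v₁ * g⁻¹) = v₁⁻¹ * (g * (v₁ * v₂)) * (g * v₂)⁻¹ := by group
        _ = _ := by rw [h3]; group
    have h3 := hbot _ (mul_mem hv₂ (inv_mem h1))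
      (h2 ▸ mul_mem (inv_mem hv₁) (conj_mem_of_mem_normalizer (hPD hg) hv₁))
    rw [h3, inv_mul_eq_one, eq_mul_inv_iff_mul_eq] at h2
    rw [mul_inv_eq_one, eq_mul_inv_iff_mul_eq] at h3
    by_contra hgZ
    have h4 : g ∈ 𝐂 z := by
      by_contra e
      exact hv₁Z (hfix g hg e v₁ hv₁ h2.symm)
    exact hv₂z (h.cent_eq hz hzZ h4 hgZ (h.big g (hPe g hg) hgZ) ▸ mem_cent.2 h3)
  generalize v₁ * ⁅y, z⁆ = v at hvV hPv
  have h1 : (𝐂 v).relIndex ((P : Subgroup G) ⊓ T) ∣ p := by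
    have h2 : (𝐂 v).relIndex T = (𝐂 v).relIndex ((P : Subgroup G) ⊓ T) :=
      H9.relIndex_eq_of_mul inf_le_right fun t ht => by
        obtain ⟨c, hc, e⟩ := hTP _ ht
        refine ⟨c, hc, c⁻¹ * t, mem_cent.2 (mem_centralizer_iff.1 (hV hvV).2 _ ?_), by group⟩
        show f _ = 1
        rw [map_mul, map_inv, e, inv_mul_cancel]
    have h3 : ix v ∣ m * n := by
      by_cases e : v ∈ center G
      · rw [Frob.index_centralizer_eq_one_iff.2 e]; exact one_dvd _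
      · rcases h.idx v e with e | e <;> rw [e]
        exact dvd_mul_right _ _
    obtain ⟨k, hk⟩ := (P.2.to_inf_left (K := T)).exists_card_eq
    refine Dvd.dvd.trans (Nat.Coprime.dvd_of_dvd_mul_right ?_
      (h2 ▸ (Frob.relIndex_normal_dvd_index _ T).trans h3)) hmp
    rw [hβ]
    exact (Nat.coprime_pow_primes k β h.hp h.hq h.hpq).coprime_dvd_left
      (hk ▸ relIndex_dvd_card _ _)
  have h2 : ∀ X : Subgroup G, center G ≤ X → z ∈ X → (P : Subgroup G) ⊓ T ≤ X := fun X h3 h4 =>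
    le_of_relIndex_dvd_prime h.hp h1 (fun g hg => h3 (hPv g hg.2.1 hg.1)) ⟨hzP, hzT⟩ h4
      fun e => hzZ (hPv z hzP e)
  refine hbz (h2 _ (center_le_centralizer _) (self_mem_cent z) ⟨hbP, hT (mem_centralizer_iff.2
    fun t ht => ?_)⟩)
  obtain ⟨c, hc, rfl⟩ := hTP t ht
  refine mem_cent.1 (h2 ((centralizer {f b}).comap f) (fun x hx => mem_cent.2 ?_) (mem_cent.2 ?_) hc)
  · rw [hZR hx, one_mul, mul_one]
  · rw [← commutatorElement_eq_one_iff_mul_comm, ← map_commutatorElement]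
    exact hZR (hz2 b hbP)

end Bad

end CfsgLib.Rk2
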