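import Cfsg.Agent.Lib.Rk2.Act
import Cfsg.Agent.Lib.H5FourClsA
import Cfsg.Agent.Lib.H8NilpotentHall
import Cfsg.Agent.Lib.BSW.ClsB
import Cfsg.Agent.S4034

/-! Groups in which the centralizers of noncentral elements have a common `s'`-part, realised by
an abelian subgroup. -/

set_option autoImplicit false

namespace CfsgLib.Rk2

open Subgroup Cfsg CfsgLib.H5.TwoCls CfsgLib.BSW

variable {G : Type*} [Group G] [Finite G]

local notation "ix" g:max => Subgroup.index (centralizer ({g} : Set G))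

theorem exists_dvd_ix {r : ℕ} (hr : r.Prime) (hd : r ∣ (center G).index) : ∃ g : G, r ∣ ix g := by
  by_contra hc
  push Not at hc
  haveI := Fact.mk hr
  obtain ⟨Q⟩ : Nonempty (Sylow r G) := inferInstance
  have := SqClass.eq_top_of_forall_exists_conj_mem
    fun w => exists_conj_mem_centralizer_sylow Q (hc w)
  refine Q.not_dvd_index (hd.trans (index_dvd_of_le fun x hx => mem_center_iff.mpr fun g => ?_))
  exact (mem_centralizer_iff.mp (this ▸ mem_top g : g ∈ centralizer ((Q : Subgroup G) : Set G))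
      x hx).symm

theorem exists_part {x : G} (hx : x ∉ center G) :
    ∃ u ∈ zpowers x, ∃ s k : ℕ, s.Prime ∧ orderOf u = s ^ k ∧ u ∉ center G := by
  by_contra! hcon
  exact hx (mem_of_forall_primePow_mem hcon)

theorem exists_notMem_center {r : ℕ} (hr : r.Prime) (hd : r ∣ (center G).index) :
    ∃ w : G, (∃ k, orderOf w = r ^ k) ∧ w ∉ center G := by
  obtain ⟨w, -, h⟩ := H5.exists_primePow_notMem_of_dvd_relIndex (C := center G) (N := ⊤) hr
    (by rwa [relIndex_top_right])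
  exact ⟨w, h⟩

theorem dvd_relIndex_center {r j : ℕ} (hr : r.Prime) {y : G} (hj : orderOf y = r ^ j)
    (hyZ : y ∉ center G) {C : Subgroup G} (hy : y ∈ C) : r ∣ (center G).relIndex C := by
  rw [← card_map_mk'_eq_relIndex]
  have h2 : orderOf (QuotientGroup.mk' (center G) y) ∣ r ^ j := hj ▸ orderOf_map_dvd _ y
  obtain ⟨k, -, hk⟩ := (Nat.dvd_prime_pow hr).1 h2
  have hk0 : k ≠ 0 := fun h0 => hyZ ((QuotientGroup.eq_one_iff y).1
    (orderOf_eq_one_iff.1 (by rw [h0] at hk; exact hk)))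
  exact (dvd_pow_self r hk0).trans (hk ▸ orderOf_dvd_natCard _ (mem_map_of_mem _ hy))

theorem dvd_index_center {r j : ℕ} (hr : r.Prime) {y : G} (hj : orderOf y = r ^ j)
    (hyZ : y ∉ center G) : r ∣ (center G).index := by
  rw [← relIndex_top_right]
  exact dvd_relIndex_center hr hj hyZ (mem_top y)

theorem exists_orderOf_of_pow {r k : ℕ} (hr : r.Prime) {x : G} (h : x ^ r ^ k = 1) :
    ∃ j, orderOf x = r ^ j := by
  obtain ⟨j, -, hj⟩ := (Nat.dvd_prime_pow hr).1 (orderOf_dvd_of_pow_eq_one h)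
  exact ⟨j, hj⟩

omit [Finite G] in
theorem conj_notMem_center {g x : G} (hx : x ∉ center G) : g * x * g⁻¹ ∉ center G := fun h =>
  hx (by simpa [mul_assoc] using Normal.conj_mem inferInstance _ h g⁻¹)

section

variable {A : Subgroup G} {s : ℕ}

theorem relIndex_pow (hs : s.Prime) {D : Subgroup G} {w : G} {k : ℕ}
    (hc : Nat.card (centralizer ({w} : Set G)) = Nat.card A * s ^ k) (h1 : A ≤ D)
    (h2 : D ≤ centralizer {w}) : ∃ j, A.relIndex D = s ^ j := by
  have h3 := card_dvd_of_le h2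
  rw [hc, ← card_mul_relIndex h1] at h3
  obtain ⟨j, -, hj⟩ := (Nat.dvd_prime_pow hs).1 (Nat.dvd_of_mul_dvd_mul_left Nat.card_pos h3)
  exact ⟨j, hj⟩

theorem compl_elem (hs : s.Prime)
    (hc : ∀ w ∉ center G, ∃ k, Nat.card (centralizer ({w} : Set G)) = Nat.card A * s ^ k)
    {r : ℕ} (hr : r.Prime) (hrs : r ≠ s) (hd : r ∣ (center G).index) :
    ∃ a ∈ A, a ∉ center G ∧ ∃ k, a ^ r ^ k = 1 := by
  have := Fact.mk hr
  by_contra! hcon
  obtain ⟨w, hw, hwZ⟩ := exists_notMem_center hr hd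
  obtain ⟨S, hS⟩ := IsSylowIn.exists_in (p := r) A
  have h1 : S ≤ center G := fun x hx => by
    by_contra hxZ
    obtain ⟨k, hk⟩ := hS.isPGroup ⟨x, hx⟩
    exact hcon x (hS.le hx) hxZ k (congrArg Subtype.val hk)
  have h2 : zpowers w ≤ normalizer (S : Set G) := zpowers_le.2 (mem_normalizer_of_conj_mem
    fun x hx => by rw [mem_center_iff.1 (h1 hx) w, mul_inv_cancel_right]; exact hx)
  have h3 : IsPGroup r (zpowers w ⊔ S : Subgroup G) :=
    (isPGroup_zpowers_iff.2 hw).to_sup_of_normal_right' hS.isPGroup h2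
  obtain ⟨k, hk⟩ := hc w hwZ
  obtain ⟨n, hn⟩ := h3.exists_card_eq
  have h4 : Nat.card (zpowers w ⊔ S : Subgroup G) ∣ Nat.card A * s ^ k := hk ▸ card_dvd_of_le
    (sup_le (zpowers_le.2 (self_mem_cent w)) (h1.trans (center_le_centralizer _)))
  rw [hn] at h4
  have h5 : r ^ n ∣ Nat.card A :=
    (Nat.coprime_pow_primes _ _ hr hs hrs).dvd_of_dvd_mul_right h4
  have h6 : S = zpowers w ⊔ S := eq_of_le_of_card_ge le_sup_right (by
    rw [hn, hS.card_eq_ordProj]
    exact Nat.pow_le_pow_right hr.pos ((hr.pow_dvd_iff_le_factorization Nat.card_pos.ne').1 h5))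
  exact hwZ (h1 (h6 ▸ mem_sup_left (mem_zpowers w)))

theorem compl_norm (hA : IsMulCommutative A) (hs : s.Prime) (hsA : ¬ s ∣ Nat.card A)
    (hc : ∀ w ∉ center G, ∃ k, Nat.card (centralizer ({w} : Set G)) = Nat.card A * s ^ k)
    {r : ℕ} (hr : r.Prime) {a : G} (ha : a ∈ A) (haZ : a ∉ center G) {k : ℕ}
    (hk : a ^ r ^ k = 1) :
    ∃ e ∈ normalizer (A : Set G), e ∉ centralizer (A : Set G) ∧ ∃ k, e ^ r ^ k = 1 := by
  have := Fact.mk hr
  have hcomm := BSW.isMulCommutative_iff'.1 hA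
  obtain ⟨i, hi⟩ := exists_orderOf_of_pow hr hk
  have hrs : r ≠ s := by
    rintro rfl
    have h0 : i ≠ 0 := fun e => haZ (orderOf_eq_one_iff.1 (by rw [hi, e, pow_zero]) ▸ one_mem _)
    exact hsA ((dvd_pow_self r h0).trans (hi ▸ orderOf_dvd_natCard _ ha))
  obtain ⟨S, haS, hS⟩ := IsSylowIn.exists_ge (isPGroup_zpowers_iff.2 ⟨i, hi⟩) (zpowers_le.2 ha)
  replace haS : a ∈ S := haS (mem_zpowers a)
  set D := centralizer (S : Set G) with hD
  have hAD : A ≤ D := fun x hx => mem_centralizer_iff.2 fun y hy => hcomm y (hS.le hy) x hx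
  obtain ⟨l, hl⟩ := hc a haZ
  obtain ⟨j, hj⟩ := relIndex_pow hs hl hAD fun x hx =>
    mem_cent.2 (mem_centralizer_iff.1 hx a haS).symm
  have hSD : IsSylowIn r S D := ⟨hS.le.trans hAD, hS.isPGroup, by
    rw [← relIndex_mul_relIndex S A D hS.le hAD, hj, hr.dvd_mul]
    rintro (h | h)
    exacts [hS.not_dvd h, hrs ((Nat.prime_dvd_prime_iff_eq hr hs).1 (hr.dvd_of_dvd_pow h))]⟩
  obtain ⟨P, hP⟩ := hS.isPGroup.exists_le_sylow
  have h3 : S < P := lt_of_le_of_ne hP fun h => by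
    obtain ⟨g, hg⟩ := exists_dvd_ix hr (dvd_index_center hr hi haZ)
    have hgZ : g ∉ center G := fun e => by
      rw [Frob.index_centralizer_eq_one_iff.2 e] at hg
      exact hr.one_lt.ne' (Nat.dvd_one.1 hg)
    obtain ⟨n, hn⟩ := hc g hgZ
    have h1 := (centralizer ({g} : Set G)).card_mul_index
    rw [hn, ← S.card_mul_index, ← card_mul_relIndex hS.le, mul_assoc, mul_assoc] at h1
    have h2 := Nat.eq_of_mul_eq_mul_left Nat.card_pos h1
    refine P.not_dvd_index ?_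
    rw [← h, ← h2]
    exact (hg.mul_left _).mul_left _
  obtain ⟨b, hb, hb1⟩ := SetLike.exists_of_lt (lt_inf_normalizer_of_isPGroup P.2 h3)
  have hall : IsPiHallOf {s}ᶜ A D := ⟨hAD, fun p _ hd e => hsA (e ▸ hd), fun p hp hps hd =>
    hps ((Nat.prime_dvd_prime_iff_eq hp hs).1 (hp.dvd_of_dvd_pow (hj ▸ hd)))⟩
  have hbD : b ∈ normalizer (D : Set G) := Cop.normalizer_le_normalizer_centralizer S hb.2
  have hnil := NilHall.isNilpotent_of_isMulCommutative hA
  have hall' : IsPiHallOf {s}ᶜ (A.map (MulAut.conj b).toMonoidHom) D := by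
    refine ⟨?_, by rw [card_map_conj]; exact hall.2.1, ?_⟩
    · rw [← map_conj_eq_of_mem_normalizer hbD]; exact map_mono hAD
    · rw [← map_conj_eq_of_mem_normalizer hbD,
        relIndex_map_map_of_injective _ _ (MulAut.conj b).injective]
      exact hall.2.2
  obtain ⟨g, hg, hgA⟩ := NilHall.exists_conj_eq hall hnil hall' (isNilpotent_map hnil _)
  rw [← map_conj_mul] at hgA
  have he := mem_normalizer_of_map_conj_eq hgA
  obtain ⟨u, hu, v, hv, huv, -, ⟨n, hn⟩, hv1⟩ := exists_p_part hr (g * b)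
  refine ⟨u, zpowers_le.2 he hu, fun huC => hb1 ?_, n, hn ▸ pow_orderOf_eq_one u⟩
  have huD : u ∈ D := centralizer_le hS.le huC
  have hgN : g ∈ normalizer (S : Set G) := centralizer_le_normalizer _ hg
  have hvN : v ∈ normalizer (S : Set G) := zpowers_le.2 (mul_mem hgN hb.2) hv
  let f := S.normalizerMonoidHom
  have hf : ∀ x : normalizer (S : Set G), f x = 1 ↔ (x : G) ∈ D := fun x => by
    rw [← MonoidHom.mem_ker, normalizerMonoidHom_ker]; rfl
  have h4 : f ⟨b, hb.2⟩ = f ⟨v, hvN⟩ := by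
    have h5 : (⟨g, hgN⟩ : normalizer (S : Set G)) * ⟨b, hb.2⟩ =
        ⟨u, centralizer_le_normalizer _ huD⟩ * ⟨v, hvN⟩ := Subtype.ext huv
    have h6 := congrArg f h5
    rwa [map_mul, map_mul, (hf _).2 hg, (hf ⟨u, _⟩).2 huD, one_mul, one_mul] at h6
  obtain ⟨m, hm⟩ := P.2 ⟨b, hb.1⟩
  have hm' : b ^ r ^ m = 1 := congrArg Subtype.val hm
  have h5 : f ⟨b, hb.2⟩ = 1 := orderOf_eq_one_iff.1 (Nat.eq_one_of_dvd_coprimes (hv1.pow_right m)
    (h4 ▸ (orderOf_map_dvd f _).trans (by rw [orderOf_mk]))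
    ((orderOf_map_dvd f _).trans (by rw [orderOf_mk]; exact orderOf_dvd_of_pow_eq_one hm')))
  have h6 := hSD.eq_of_le (T := zpowers b ⊔ S)
    ((isPGroup_zpowers_iff.2 (exists_orderOf_of_pow hr hm')).to_sup_of_normal_right' hS.isPGroup
      (zpowers_le.2 hb.2)) le_sup_right (sup_le (zpowers_le.2 ((hf _).1 h5)) hSD.le)
  exact h6 ▸ mem_sup_left (mem_zpowers b)

theorem compl_fix (hA : IsMulCommutative A) (hs : s.Prime) (hsA : ¬ s ∣ Nat.card A)
    (hc : ∀ w ∉ center G, ∃ k, Nat.card (centralizer ({w} : Set G)) = Nat.card A * s ^ k)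
    {a e : G} (ha : a ∈ A) (haZ : a ∉ center G) (he : e ∈ normalizer (A : Set G))
    (hea : e * a = a * e) {n : ℕ} (hn : n.Coprime s) (hen : e ^ n ∈ centralizer (A : Set G)) :
    e ∈ centralizer (A : Set G) := by
  have hcomm := BSW.isMulCommutative_iff'.1 hA
  have hAC : A ≤ centralizer (A : Set G) := fun x hx =>
    mem_centralizer_iff.2 fun y hy => hcomm y hy x hx
  obtain ⟨u, hu, v, hv, huv, hc', ⟨k, hk⟩, hv1⟩ := exists_p_part hs e
  obtain ⟨l, hl⟩ := hc a haZ
  have h1 := zpowers_le.2 (zpowers_le.2 he hv)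
  obtain ⟨j, hj⟩ := relIndex_pow hs hl (D := zpowers v ⊔ A) le_sup_right (sup_le
    (zpowers_le.2 (zpowers_le.2 (mem_cent.2 hea) hv)) fun x hx => mem_cent.2 (hcomm x hx a ha))
  have h2 := card_sup_dvd_mul h1
  rw [← card_mul_relIndex (le_sup_right : A ≤ zpowers v ⊔ A), hj, mul_comm _ (Nat.card A),
    Nat.card_zpowers] at h2
  have h3 : A.relIndex (zpowers v ⊔ A) = 1 := hj ▸ Nat.eq_one_of_dvd_coprimes (hv1.pow_right j)
    (Nat.dvd_of_mul_dvd_mul_left Nat.card_pos h2) dvd_rfl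
  have hvA : v ∈ centralizer (A : Set G) :=
    hAC (relIndex_eq_one.1 h3 (mem_sup_left (mem_zpowers v)))
  rw [huv] at hen ⊢
  rw [hc'.mul_pow, mul_mem_cancel_right (pow_mem hvA n)] at hen
  refine mul_mem ?_ hvA
  obtain ⟨m, hm⟩ := exists_pow_eq_self_of_coprime (x := u) (n := n) (hk ▸ hn.pow_right k)
  exact hm ▸ pow_mem hen m

theorem false_of_compl (hA : IsMulCommutative A) (hs : s.Prime) (hsA : ¬ s ∣ Nat.card A)
    (hc : ∀ w ∉ center G, ∃ k, Nat.card (centralizer ({w} : Set G)) = Nat.card A * s ^ k)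
    {t u : ℕ} (ht : t.Prime) (hu : u.Prime) (htu : t ≠ u) (hts : t ≠ s) (hus : u ≠ s)
    (htd : t ∣ (center G).index) (hud : u ∣ (center G).index) : False := by
  letI : CommGroup A := { (inferInstance : Group A) with mul_comm := hA.is_comm.comm }
  have hker : ∀ e : normalizer (A : Set G), A.normalizerMonoidHom.rangeRestrict e = 1 ↔
      (e : G) ∈ centralizer (A : Set G) := fun e => by
    rw [← MonoidHom.mem_ker, MonoidHom.ker_rangeRestrict, normalizerMonoidHom_ker]; rfl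
  have h2 : ∀ {r : ℕ}, r.Prime → r ≠ s → r ∣ (center G).index →
      ∃ v ∉ (center G).subgroupOf A, ∃ k, v ^ r ^ k = 1 := fun hr hrs hd => by
    obtain ⟨a, ha, haZ, k, hk⟩ := compl_elem hs hc hr hrs hd
    exact ⟨⟨a, ha⟩, haZ, k, Subtype.ext hk⟩
  refine false_of_fixed' (E := A.normalizerMonoidHom.range) (V := A)
    (V₀ := (center G).subgroupOf A) hs ht hu htu ?_ ?_ ?_ hsA ?_ ?_ (h2 ht hts htd) (h2 hu hus hud)
  · rintro ⟨_, e, rfl⟩ v hv
    refine Subtype.ext ?_
    show (e : G) * v * (e : G)⁻¹ = v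
    exact mul_inv_eq_iff_eq_mul.2 (mem_center_iff.1 hv e)
  · rintro ⟨_, e, rfl⟩ he ho v hv
    by_contra hvZ
    have h3 : (e : G) * v * (e : G)⁻¹ = v := congrArg Subtype.val hv
    refine he ((hker e).2 (compl_fix hA hs hsA hc v.2 hvZ e.2 (mul_inv_eq_iff_eq_mul.1 h3) ho ?_))
    rw [← SubgroupClass.coe_pow, ← hker, map_pow]
    exact pow_orderOf_eq_one _
  · exact fun e he => Subtype.ext (MulEquiv.ext he)
  · rintro r hr ⟨v, hv, k, hk⟩
    obtain ⟨e, he, heC, j, hj⟩ := compl_norm hA hs hsA hc hr v.2 hv (congrArg Subtype.val hk)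
    refine ⟨A.normalizerMonoidHom.rangeRestrict ⟨e, he⟩, fun h => heC ((hker _).1 h), j, ?_⟩
    rw [← map_pow, show (⟨e, he⟩ : normalizer (A : Set G)) ^ _ = 1 from Subtype.ext hj, map_one]
  · intro r hr hrs hd
    refine h2 hr hrs (hd.trans ?_)
    rw [← index_ker, normalizerMonoidHom_ker]
    exact (relIndex_dvd_index_of_le (centralizer_le_normalizer _)).trans
      (index_dvd_of_le (center_le_centralizer _))

end

end CfsgLib.Rk2
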