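import Cfsg.Agent.Lib.Rk2.Bad
import Cfsg.Agent.S4127

/-! Class sizes `1, m, m n` with `m, n` coprime. -/

set_option autoImplicit false

namespace CfsgLib.Rk2

open Subgroup Cfsg CfsgLib.H5.TwoCls CfsgLib.BSW
open scoped commutatorElement

variable {G : Type*} [Group G] [Finite G]

local notation "ix" g:max => Subgroup.index (centralizer ({g} : Set G))
local notation "rx" g:max => Subgroup.relIndex (center G) (centralizer ({g} : Set G))
local notation "𝐂" g:max => centralizer ({g} : Set G)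

theorem exists_small_p {m n : ℕ} (h : NF G m n) (hm : 1 < m) (hc : m.Coprime n)
    (hx : ∃ x : G, ix x = m) (hy : ∃ y : G, ix y = m * n) :
    ∃ p : ℕ, p.Prime ∧ (∀ r : ℕ, r.Prime → r ∣ m → r = p) ∧
      ∃ x : G, (∃ k, orderOf x = p ^ k) ∧ ix x = m := by
  obtain ⟨x, hx⟩ := hx
  obtain ⟨y, hy⟩ := hy
  have hxZ : x ∉ center G := fun e => hm.ne' (hx ▸ Frob.index_centralizer_eq_one_iff.2 e)
  obtain ⟨p, hp, hpm⟩ := Nat.exists_prime_and_dvd hm.ne'
  obtain ⟨q, hq, hqn⟩ := Nat.exists_prime_and_dvd h.hn.ne'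
  have hne : ∀ {r s : ℕ}, r.Prime → r ∣ m → s ∣ n → r ≠ s := fun hr h1 h2 e =>
    hr.one_lt.ne' (Nat.eq_one_of_dvd_coprimes hc h1 (e ▸ h2))
  have hZ : m * n ∣ (center G).index := hy ▸ index_dvd_of_le (center_le_centralizer _)
  refine ⟨p, hp, ?_⟩
  by_cases hF : IsF G
  · have h1 : ∀ w, ix w = m * n → rx x = rx w * n := fun w hw => by
      have h3 := relIndex_center_mul x
      rw [← relIndex_center_mul w, hx, hw, mul_comm m, ← mul_assoc] at h3
      exact Nat.eq_of_mul_eq_mul_right (by omega) h3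
    have h2 : ∀ r : ℕ, r.Prime → r ∣ m → r ∣ rx x := fun r hr hd => by
      obtain ⟨w, ⟨k, hk⟩, hwZ⟩ := exists_notMem_center hr ((hd.mul_right n).trans hZ)
      have h3 := dvd_relIndex_center hr hk hwZ (self_mem_cent w)
      rcases h.idx w hwZ with e | e
      · exact rx_congr (e.trans hx.symm) ▸ h3
      · exact h1 w e ▸ h3.mul_right n
    have h3 := hF.comm_of_two hxZ hp hq (hne hp hpm hqn) (h2 p hp hpm) (h1 y hy ▸ hqn.mul_left _)
    obtain ⟨w, hw, hw1, hwZ⟩ := H5.exists_primePow_notMem_of_dvd_relIndex hp (h2 p hp hpm)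
    refine ⟨fun r hr hd => ?_, w, hw1, by rw [hF.cent_eq h3 hw hwZ, hx]⟩
    by_contra e
    exact hF.one_prime h3 hr hp e (h2 r hr hd) (h2 p hp hpm) (hx ▸ hd) (hx ▸ hpm)
  unfold IsF at hF
  push Not at hF
  obtain ⟨u, v, hv, hle, hne'⟩ := hF
  obtain ⟨a, b, -, -, h1⟩ := h.two_primes hv (lt_of_le_of_ne hle hne')
  have h2 : ∀ r : ℕ, r.Prime → r ∣ (center G).index → r = p ∨ r = q := fun r hr hd => by
    have := h1 r hr hd
    have := h1 p hp ((hpm.mul_right n).trans hZ)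
    have := h1 q hq ((hqn.mul_left m).trans hZ)
    have := hne hp hpm hqn
    omega
  have h3 : ∀ r : ℕ, r.Prime → r ∣ m → r = p := fun r hr hd =>
    (h2 r hr ((hd.mul_right n).trans hZ)).resolve_right (hne hr hd hqn)
  refine ⟨h3, ?_⟩
  by_contra! hcon
  exact Bad.false ⟨h, hp, hq, hne hp hpm hqn, h2, hpm, hqn, h3, fun r hr hd =>
    (h2 r hr ((hd.mul_left m).trans hZ)).resolve_left (hne hp hpm hd).symm,
    fun w hw hwZ => (h.idx w hwZ).resolve_left (hcon w hw), x, hxZ, hx⟩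

variable (G) in
structure Good (m n p : ℕ) (N : Subgroup G) (w : G) : Prop extends NF G m n where
  hp : p.Prime
  pm : p ∣ m
  pn : ¬ p ∣ n
  hm : ∃ a, m = p ^ a
  norm : N.Normal
  cop : (Nat.card N).Coprime p
  ind : ∃ k, N.index = p ^ k
  hw : ∃ k, orderOf w = p ^ k
  small : ix w = m
  big : ∃ y : G, ix y = m * n

namespace Good

variable {m n p : ℕ} {N : Subgroup G} {w : G} (h : Good G m n p N w)
include h

omit [Finite G] in
theorem copn : p.Coprime n := h.hp.coprime_iff_not_dvd.2 h.pn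

omit [Finite G] in
theorem mem_N {u : G} (hu : (orderOf u).Coprime p) : u ∈ N := by
  have := h.norm
  obtain ⟨k, hk⟩ := h.ind
  exact mem_of_coprime_index (hk ▸ hu.pow_right k)

omit [Finite G] in
theorem ord_N {u : G} (hu : u ∈ N) : (orderOf u).Coprime p :=
  h.cop.coprime_dvd_left (orderOf_dvd_natCard N hu)

theorem N_le {x : G} (hx : ix x = m) : N ≤ 𝐂 x := by
  have := h.norm
  obtain ⟨a, ha⟩ := h.hm
  exact H5.le_of_normal_of_coprime_index (by rw [hx, ha]; exact h.cop.pow_right a)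

omit [Finite G] in
theorem eq_one {X : Subgroup G} (hX : N ≤ X) {d : ℕ} (hd : d ∣ X.index) (hd' : d ∣ n) : d = 1 := by
  obtain ⟨k, hk⟩ := h.ind
  exact Nat.eq_one_of_dvd_coprimes (h.copn.pow_left k) (hk ▸ hd.trans (index_dvd_of_le hX)) hd'

omit [Finite G] in
theorem small_of {x : G} (hx : N ≤ 𝐂 x) (hxZ : x ∉ center G) : ix x = m :=
  (h.idx x hxZ).resolve_right fun e => h.hn.ne' (h.eq_one hx (e ▸ dvd_mul_left n m) dvd_rfl)

omit [Finite G] in
theorem wZ : w ∉ center G := fun e => h.hp.one_lt.ne' (Nat.dvd_one.1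
  (Frob.index_centralizer_eq_one_iff.2 e ▸ h.small ▸ h.pm))

theorem M_comm {a u : G} (ha : a ∈ pCore p G) (hu : u ∈ N) : u * a = a * u := by
  have := h.norm
  have := Fact.mk h.hp
  exact (commute_of_normal_of_disjoint _ _ inferInstance inferInstance
    (H5.disjoint_of_isPGroup_of_coprime (pCore_isPGroup p) h.cop) a u ha hu).eq.symm

theorem mem_M {x : G} (hx : ∃ k, orderOf x = p ^ k) (hN : N ≤ 𝐂 x) : x ∈ pCore p G := by
  have := h.norm
  have := Fact.mk h.hp
  obtain ⟨P⟩ : Nonempty (Sylow p G) := inferInstance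
  obtain ⟨k, hk⟩ := hx
  obtain ⟨g, hg⟩ := exists_conj_mem_sylow P hk
  obtain ⟨j, hj⟩ := h.ind
  have h1 := (IsSylowIn.sylow_top P).sup_eq_of_relIndex_eq_pow (N := N) le_top
    (by rw [relIndex_top_right, hj])
  have h2 : ((P : Subgroup G) ⊓ centralizer (N : Set G)).Normal := by
    rw [← normalizer_eq_top_iff, eq_top_iff, ← h1]
    refine sup_le (fun u hu => centralizer_le_normalizer _ (mem_centralizer_iff.2 fun y hy =>
      (mem_centralizer_iff.1 hy.2 u hu).symm)) fun u hu => mem_normalizer_of_conj_mem fun y hy =>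
        mem_inf.2 ⟨mul_mem (mul_mem hu hy.1) (inv_mem hu), Normal.conj_mem inferInstance y hy.2 u⟩
  have h3 : x ∈ centralizer (N : Set G) := mem_centralizer_iff.2 fun u hu => mem_cent.1 (hN hu)
  have h4 := le_pCore (P.2.to_inf_left (K := centralizer (N : Set G)))
    (mem_inf.2 ⟨hg, Normal.conj_mem inferInstance x h3 g⟩)
  simpa [mul_assoc] using Normal.conj_mem inferInstance _ h4 g⁻¹

theorem w_mem : w ∈ pCore p G := h.mem_M h.hw (h.N_le h.small)

omit [Finite G] in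
theorem exists_N : ∃ u ∈ N, u ∉ center G := by
  by_contra! hcon
  obtain ⟨y, hy⟩ := h.big
  exact h.hn.ne' (h.eq_one (fun u hu => center_le_centralizer {y} (hcon u hu))
    (hy ▸ dvd_mul_left n m) dvd_rfl)

theorem cent_le {u a : G} (hu : u ∈ N) (huZ : u ∉ center G) (ha : a ∈ pCore p G) : 𝐂 u ≤ 𝐂 a := by
  have := h.norm
  have := Fact.mk h.hp
  obtain ⟨k, hk⟩ := orderOf_of_mem (pCore_isPGroup p) ha
  have hc : (orderOf a).Coprime (orderOf u) := hk ▸ (h.ord_N hu).symm.pow_left k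
  have hau : a ∈ 𝐂 u := mem_cent.2 (h.M_comm ha hu).symm
  rcases h.idx u huZ with e | e
  · refine relIndex_eq_one.1 ((h.rel huZ e hau hc).resolve_right fun e' => h.hn.ne'
      (h.eq_one le_rfl ?_ dvd_rfl))
    rw [← e']
    exact (relIndex_dvd_of_le_left _ fun x hx => mem_cent.2 (h.M_comm ha hx)).trans
      (relIndex_dvd_index_of_normal N _)
  · have h1 := Frob.centralizer_mul_of_coprime (mem_cent.1 hau) hc
    rw [← h.eq_of_big huZ e (h1.le.trans inf_le_right)]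
    exact h1.le.trans inf_le_left

theorem M_ab {a b : G} (ha : a ∈ pCore p G) (hb : b ∈ pCore p G) : a * b = b * a := by
  obtain ⟨u, hu, huZ⟩ := h.exists_N
  exact mem_cent.1 (h.cent_le hu huZ hb (mem_cent.2 (h.M_comm ha hu).symm))

theorem cent_eq_sup {u a : G} (hu : u ∈ N) (huZ : u ∉ center G) (ha : a ∈ pCore p G)
    (haZ : a ∉ center G) {S : Subgroup G} (hS : IsSylowIn p S (𝐂 u)) : S ⊔ N = 𝐂 a := by
  have h1 : N ≤ 𝐂 a := fun x hx => mem_cent.2 (h.M_comm ha hx)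
  have h2 : S ⊔ N ≤ 𝐂 a := sup_le (hS.le.trans (h.cent_le hu huZ ha)) h1
  obtain ⟨k, hk⟩ := h.ind
  obtain ⟨j, -, hj⟩ := (Nat.dvd_prime_pow h.hp).1
    (hk ▸ index_dvd_of_le le_sup_right : (S ⊔ N).index ∣ p ^ k)
  have h3 : (S ⊔ N).index ∣ m := by
    have h4 := index_dvd_of_le (le_sup_left : S ≤ S ⊔ N)
    rw [← relIndex_mul_index hS.le, hj] at h4
    have h5 := ((h.hp.coprime_iff_not_dvd.2 hS.not_dvd).pow_left j).dvd_of_dvd_mul_left h4
    rw [hj]
    rcases h.idx u huZ with e | e <;> rw [e] at h5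
    exacts [h5, (h.copn.pow_left j).dvd_of_dvd_mul_right h5]
  have h4 := relIndex_mul_index h2
  rw [h.small_of h1 haZ] at h4
  refine h2.antisymm (relIndex_eq_one.1 (Nat.dvd_one.1 (Nat.dvd_of_mul_dvd_mul_right
    (h.small ▸ Nat.pos_of_ne_zero index_ne_zero_of_finite : 0 < m) ?_)))
  rwa [h4, one_mul]

theorem cent_eq {a : G} (ha : a ∈ pCore p G) (haZ : a ∉ center G) : 𝐂 a = pCore p G ⊔ N := by
  have := h.norm
  have := Fact.mk h.hp
  refine le_antisymm ?_ (sup_le (fun x hx => mem_cent.2 (h.M_ab hx ha))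
    fun x hx => mem_cent.2 (h.M_comm ha hx))
  obtain ⟨u, hu, huZ⟩ := h.exists_N
  obtain ⟨S, hS⟩ := IsSylowIn.exists_in (p := p) (𝐂 u)
  have h1 := h.cent_eq_sup hu huZ ha haZ hS
  have key : ∀ {v : G}, v ∈ N → v ∉ center G → ∀ {T : Subgroup G}, IsSylowIn p T (𝐂 v) →
      IsSylowIn p T (𝐂 a) := fun hv hvZ T hT => by
    rw [← h.cent_eq_sup hv hvZ ha haZ hT]
    refine ⟨le_sup_left, hT.isPGroup, fun hd => h.hp.coprime_iff_not_dvd.1 h.cop.symm ?_⟩
    rw [Frob.relIndex_sup_eq_of_normal] at hd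
    exact hd.trans (relIndex_dvd_card _ _)
  have h2 : (centralizer (S : Set G)).subgroupOf N = ⊤ :=
    SqClass.eq_top_of_forall_exists_conj_mem fun v => by
      by_cases hvZ : (v : G) ∈ center G
      · exact ⟨1, by simpa [mem_subgroupOf] using center_le_centralizer _ hvZ⟩
      obtain ⟨T, hT⟩ := IsSylowIn.exists_in (p := p) (𝐂 (v : G))
      obtain ⟨c, hc, e⟩ := (key hu huZ hS).exists_conj_eq (key v.2 hvZ hT)
      rw [← h1] at hc
      obtain ⟨s, hs, x, hx, rfl⟩ := (mem_sup_iff_of_le_normalizer le_normalizer_of_normal).1 hc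
      refine ⟨⟨x, hx⟩, mem_centralizer_iff.2 fun g hg => ?_⟩
      have h3 : s * g * s⁻¹ ∈ S := mul_mem (mul_mem hs hg) (inv_mem hs)
      rw [← e, mem_map_conj_iff] at h3
      have h4 := mem_cent.1 (hT.le h3)
      show g * (x * v * x⁻¹) = x * v * x⁻¹ * g
      calc g * (x * v * x⁻¹) = x * ((s * x)⁻¹ * (s * g * s⁻¹) * (s * x) * v) * x⁻¹ := by group
        _ = _ := by rw [h4]; group
  rw [← h1]
  refine sup_le_sup_right (fun s hs => h.mem_M (orderOf_of_mem hS.isPGroup hs) fun x hx => ?_) _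
  exact mem_cent.2 (mem_centralizer_iff.1 (h2.ge (mem_top (⟨x, hx⟩ : N))) s hs).symm

theorem mem_M_of {g : G} (hg : g ∈ 𝐂 w) (hg1 : ∃ k, orderOf g = p ^ k) : g ∈ pCore p G := by
  have := h.norm
  have := Fact.mk h.hp
  rw [h.cent_eq h.w_mem h.wZ] at hg
  have h1 : IsSylowIn p (pCore p G) (pCore p G ⊔ N) := by
    refine ⟨le_sup_left, pCore_isPGroup p, fun hd => h.hp.coprime_iff_not_dvd.1 h.cop.symm ?_⟩
    rw [Frob.relIndex_sup_eq_of_normal] at hd
    exact hd.trans (relIndex_dvd_card _ _)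
  rw [← h1.eq_of_le (T := zpowers g ⊔ pCore p G) ((isPGroup_zpowers_iff.2 hg1).to_sup_of_normal_right
    (pCore_isPGroup p)) le_sup_right (sup_le (zpowers_le.2 hg) le_sup_left)]
  exact mem_sup_left (mem_zpowers g)

theorem fixN {b u : G} (hb : b ∉ 𝐂 w) (hu : u ∈ N) (e : b * u = u * b) : u ∈ center G := by
  by_contra huZ
  exact hb (h.cent_le hu huZ h.w_mem (mem_cent.2 e))

theorem exists_z (P : Sylow p G) : ∃ z ∈ pCore p G, z ∉ center G ∧ z ^ p ∈ center G ∧
    (∀ g ∈ (P : Subgroup G), ⁅z, g⁆ ∈ center G) ∧ (𝐂 w).relIndex P ∣ p := by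
  have := h.norm
  have := Fact.mk h.hp
  obtain ⟨z, -, hz, hzZ, h1, h2⟩ := exists_second_center P.2 (T := pCore p G) fun hle =>
    h.wZ (hle ⟨pCore_le_sylow P h.w_mem, h.w_mem⟩)
  have h3 : 𝐂 z = 𝐂 w := by rw [h.cent_eq hz hzZ, h.cent_eq h.w_mem h.wZ]
  obtain ⟨u, hu, huZ⟩ := h.exists_N
  refine ⟨z, hz, hzZ, h1, h2, h3 ▸ relIndex_dvd_prime P.2 h1 h2 h.cop le_normalizer_of_normal
    (fun g hg hgz => mem_centralizer_iff.2 fun x hx =>
      h.M_comm (h.mem_M_of (h3 ▸ hgz) (orderOf_of_mem P.2 hg)) hx)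
    (fun g _ hgz x hx e => h.fixN (h3 ▸ hgz) hx e) fun hle => huZ (hle hu)⟩

theorem m_eq : m = p := by
  have := Fact.mk h.hp
  obtain ⟨P⟩ : Nonempty (Sylow p G) := inferInstance
  obtain ⟨-, -, -, -, -, h1⟩ := h.exists_z P
  obtain ⟨a, ha⟩ := h.hm
  exact Nat.dvd_antisymm (ha ▸ (pow_dvd_relIndex P (by rw [h.small, ha])).trans h1) h.pm

theorem exists_b (P : Sylow p G) : ∃ b ∈ (P : Subgroup G), b ∉ 𝐂 w :=
  have := Fact.mk h.hp
  SetLike.not_le_iff_exists.1 fun hle =>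
    P.not_dvd_index ((h.small ▸ h.pm).trans (index_dvd_of_le hle))

theorem rel_N {u : G} (hu : ix u = m * n) : n ∣ (𝐂 u).relIndex N := by
  obtain ⟨k, hk⟩ := h.ind
  have h1 := index_dvd_of_le (inf_le_left : 𝐂 u ⊓ N ≤ _)
  rw [← relIndex_mul_index inf_le_right, inf_relIndex_right, hu, hk] at h1
  exact (h.copn.symm.pow_right k).dvd_of_dvd_mul_right ((dvd_mul_left n m).trans h1)

theorem big_b {b : G} (hb : b ∉ 𝐂 w) : ix b = m * n ∧ (center G).relIndex N = n := by
  have := h.norm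
  obtain ⟨u, hu, huZ⟩ := h.exists_N
  have h1 : ix b = m * n := (h.idx b fun e => hb (center_le_centralizer _ e)).resolve_left fun e =>
    huZ (h.fixN hb hu (mem_cent.1 (h.N_le e hu)).symm)
  have h2 : (𝐂 b).relIndex N = (center G).relIndex N := by
    rw [← inf_relIndex_right, ← inf_relIndex_right (center G)]
    congr 1
    exact le_antisymm (fun x hx => ⟨h.fixN hb hx.2 (mem_cent.1 hx.1).symm, hx.2⟩)
      (inf_le_inf_right _ (center_le_centralizer _))
  refine ⟨h1, Nat.dvd_antisymm ?_ (h2 ▸ h.rel_N h1)⟩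
  obtain ⟨a, ha⟩ := h.hm
  refine Nat.Coprime.dvd_of_dvd_mul_left
    (ha ▸ (h.cop.coprime_dvd_left (relIndex_dvd_card _ _)).pow_right a : Nat.Coprime _ m) ?_
  rw [← h2, ← h1]
  exact Frob.relIndex_normal_dvd_index _ _

theorem N_ab {u v : G} (hu : u ∈ N) (hv : v ∈ N) : v * u = u * v := by
  have := Fact.mk h.hp
  obtain ⟨P⟩ : Nonempty (Sylow p G) := inferInstance
  obtain ⟨b, -, hb⟩ := h.exists_b P
  by_cases huZ : u ∈ center G
  · exact mem_center_iff.1 huZ v
  refine mem_cent.1 (h.N_le ((h.idx u huZ).resolve_right fun e => huZ ?_) hv)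
  have h1 := relIndex_mul_relIndex (center G ⊓ N) (𝐂 u ⊓ N) N
    (inf_le_inf_right _ (center_le_centralizer _)) inf_le_right
  rw [inf_relIndex_right, inf_relIndex_right, (h.big_b hb).2] at h1
  obtain ⟨c, hc⟩ := h.rel_N e
  rw [hc, mul_left_comm] at h1
  have h2 := Nat.eq_one_of_mul_eq_one_right (Nat.eq_of_mul_eq_mul_left
    (by have := h.hn; omega) (h1.trans (mul_one n).symm))
  exact (relIndex_eq_one.1 h2 ⟨self_mem_cent u, hu⟩).1

theorem C_ab : IsMulCommutative (𝐂 w) := by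
  have := h.norm
  rw [h.cent_eq h.w_mem h.wZ]
  refine BSW.isMulCommutative_iff'.2 fun x hx y hy => ?_
  obtain ⟨a, ha, u, hu, rfl⟩ := (mem_sup_iff_of_le_normalizer le_normalizer_of_normal).1 hx
  obtain ⟨b, hb, v, hv, rfl⟩ := (mem_sup_iff_of_le_normalizer le_normalizer_of_normal).1 hy
  exact Commute.mul_left (Commute.mul_right (h.M_ab ha hb) (h.M_comm ha hv).symm)
    (Commute.mul_right (h.M_comm hb hu) (h.N_ab hv hu))

theorem mem_C {x : G} : x ∈ 𝐂 w ↔ ix x = 1 ∨ ix x = m := by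
  refine ⟨fun hx => ?_, ?_⟩
  · have h1 := index_dvd_of_le fun g hg =>
      mem_cent.2 (BSW.isMulCommutative_iff'.1 h.C_ab g hg x hx)
    rw [h.small, h.m_eq] at h1
    rw [h.m_eq]
    exact (Nat.dvd_prime h.hp).1 h1
  · rintro (e | e)
    · exact center_le_centralizer _ (Frob.index_centralizer_eq_one_iff.1 e)
    · obtain ⟨u, hu, huZ⟩ := h.exists_N
      exact h.cent_le hu huZ h.w_mem (mem_cent_comm (h.N_le e hu))

theorem inf_eq_bot (hd : ∀ A B : Subgroup G, A.Normal → B.Normal → A ⊓ B = ⊥ → A ⊔ B = ⊤ →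
    IsMulCommutative A → A = ⊥) : N ⊓ center G = ⊥ := by
  have := h.norm
  have := Fact.mk h.hp
  obtain ⟨P⟩ : Nonempty (Sylow p G) := inferInstance
  obtain ⟨b, hbP, hb⟩ := h.exists_b P
  have hc := (Cop.coprime_card_of_isPGroup h.cop P.2).symm
  have hab : IsMulCommutative N := BSW.isMulCommutative_iff'.2 fun a ha b hb => h.N_ab hb ha
  have h1 : N ⊓ center G ⊔ (⁅N, (P : Subgroup G)⁆ ⊔ P) = ⊤ := by
    obtain ⟨j, hj⟩ := h.ind
    rw [eq_top_iff, ← (IsSylowIn.sylow_top P).sup_eq_of_relIndex_eq_pow (N := N) le_top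
      (by rw [relIndex_top_right, hj])]
    refine sup_le (fun u hu => ?_) (le_sup_right.trans le_sup_right)
    obtain ⟨a, ha, c, hc', rfl⟩ := Cop.exists_commutator_mul_centralizer le_normalizer_of_normal hc
      (Or.inr isSolvable_of_isMulCommutative) hu
    exact mul_mem (mem_sup_right (mem_sup_left ha)) (mem_sup_left
      ⟨hc'.1, h.fixN hb hc'.1 (mem_centralizer_iff.1 hc'.2 b hbP)⟩)
  refine hd _ (⁅N, (P : Subgroup G)⁆ ⊔ P) inferInstance ?_ (eq_bot_iff.2 fun x hx => ?_) h1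
    (BSW.isMulCommutative_iff'.2 fun a ha b hb => h.N_ab hb.1 ha.1)
  · rw [← normalizer_eq_top_iff, eq_top_iff, ← h1]
    exact sup_le (fun x hx => centralizer_le_normalizer _ (center_le_centralizer _ hx.2))
      le_normalizer
  · obtain ⟨c, hc1, g, hg, e⟩ := (mem_sup_iff_of_le_normalizer'
      (normalizer_commutator_ge_right N (P : Subgroup G))).1 hx.2
    have h2 : g ∈ N := by
      rw [← mul_mem_cancel_left (commutator_le_left N _ hc1), e]
      exact hx.1.1
    rw [H5.eq_one_of_mem_of_coprime P.2 hg (h.ord_N h2), mul_one] at e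
    exact (Cop.commutator_inf_centralizer_eq_bot le_normalizer_of_normal hc hab).le
      ⟨e ▸ hc1, center_le_centralizer _ hx.1.2⟩

variable (h0 : N ⊓ center G = ⊥)
include h0

theorem card_N : Nat.card N = n := by
  have := Fact.mk h.hp
  obtain ⟨P⟩ : Nonempty (Sylow p G) := inferInstance
  obtain ⟨b, -, hb⟩ := h.exists_b P
  rw [← (h.big_b hb).2, ← inf_relIndex_right, inf_comm, h0, relIndex_bot_left]

theorem dvd_sub_one : p ∣ n - 1 := by
  have := h.norm
  have := Fact.mk h.hp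
  obtain ⟨P⟩ : Nonempty (Sylow p G) := inferInstance
  obtain ⟨b, hbP, hb⟩ := h.exists_b P
  have h1 := H1.card_modEq_card_inf_centralizer_elem (U := N) (a := b)
    (P.2.to_le (zpowers_le.2 hbP)) (N.normalizer_eq_top ▸ mem_top b)
  rw [show N ⊓ 𝐂 b = ⊥ from eq_bot_iff.2 fun x hx =>
    h0.le ⟨hx.1, h.fixN hb hx.1 (mem_cent.1 hx.2).symm⟩, card_bot, h.card_N h0] at h1
  exact (Nat.modEq_iff_dvd' h.hn.le).1 h1.symm

theorem card_commutator (P : Sylow p G) : Nat.card (commutator (P : Subgroup G)) = p := by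
  have := h.norm
  have := Fact.mk h.hp
  obtain ⟨b, hbP, hb⟩ := h.exists_b P
  obtain ⟨z, hz, hzZ, hz1, hz2, hrel⟩ := h.exists_z P
  have hMP : pCore p G ≤ P := pCore_le_sylow P
  have hC := h.cent_eq h.w_mem h.wZ
  have hMC : pCore p G ≤ 𝐂 w := hC ▸ le_sup_left
  have hfix : ∀ g ∈ 𝐂 w, g ∈ 𝐂 b → g ∈ center G := fun g hg hgb => by
    obtain ⟨u, hu, v, hv, rfl, -, hu1, hv1⟩ := exists_p_part h.hp g
    refine mul_mem ?_ (h.fixN hb (h.mem_N hv1) (mem_cent.1 (zpowers_le.2 hgb hv)).symm)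
    by_contra huZ
    refine hb ?_
    rw [hC, ← h.cent_eq (h.mem_M_of (zpowers_le.2 hg hu) hu1) huZ]
    exact mem_cent_comm (zpowers_le.2 hgb hu)
  have hZM : center G ≤ pCore p G := fun g hg => by
    obtain ⟨u, hu, v, hv, rfl, -, hu1, hv1⟩ := exists_p_part h.hp g
    rw [show v = 1 from h0.le ⟨h.mem_N hv1, zpowers_le.2 hg hv⟩, mul_one]
    exact h.mem_M_of (center_le_centralizer _ (zpowers_le.2 hg hu)) hu1
  have h1 : (center G).relIndex (pCore p G) ∣ p := by
    have hn : (𝐂 w).Normal := hC ▸ inferInstance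
    have e1 := card_inf_mul_relIndex (𝐂 w) (𝐂 b)
    rw [show 𝐂 w ⊓ 𝐂 b = center G from le_antisymm (fun g hg => hfix g hg.1 hg.2)
      (le_inf (center_le_centralizer _) (center_le_centralizer _))] at e1
    have e2 := (𝐂 b).card_mul_index
    have e3 := (𝐂 w).card_mul_index
    have e4 := card_sup_of_disjoint (H := pCore p G) (N := N) le_normalizer_of_normal
      (H5.disjoint_of_isPGroup_of_coprime (pCore_isPGroup p) h.cop).eq_bot
    rw [← hC, h.card_N h0, ← card_mul_relIndex hZM] at e4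
    rw [(h.big_b hb).1, ← e1, ← e3, e4, h.small] at e2
    have e5 : (𝐂 w).relIndex (𝐂 b) = (center G).relIndex (pCore p G) := by
      refine Nat.eq_of_mul_eq_mul_left (Nat.mul_pos (Nat.card_pos (α := center G))
        (Nat.pos_of_ne_zero ((h.big_b hb).1 ▸ index_ne_zero_of_finite) : 0 < m * n)) ?_
      rw [mul_right_comm, e2]; ring
    rw [← e5, ← h.m_eq, ← h.small]
    exact relIndex_dvd_index_of_normal _ _
  have hc := hz2 b hbP
  have hc1 : orderOf ⁅z, b⁆ = p := by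
    refine orderOf_eq_prime ?_ fun e => hzZ (hfix z (hMC hz)
      (mem_cent.2 (commutatorElement_eq_one_iff_mul_comm.1 e)))
    rw [← commutator_pow_eq hc]
    exact commutatorElement_eq_one_iff_mul_comm.2 (mem_center_iff.1 hz1 b).symm
  have hY : (zpowers ⁅z, b⁆).Normal := ⟨fun x hx g => by
    rwa [mem_center_iff.1 (zpowers_le.2 hc hx) g, mul_inv_cancel_right]⟩
  let X : G → Subgroup G := fun g =>
    (centralizer {QuotientGroup.mk' (zpowers ⁅z, b⁆) g}).comap (QuotientGroup.mk' (zpowers ⁅z, b⁆))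
  have hX : ∀ x g, x ∈ X g ↔ ⁅x, g⁆ ∈ zpowers ⁅z, b⁆ := fun x g => by
    rw [mem_comap, mem_cent, ← commutatorElement_eq_one_iff_mul_comm, ← map_commutatorElement]
    exact QuotientGroup.eq_one_iff _
  have hX1 : ∀ {x g}, x * g = g * x → x ∈ X g := fun e => by
    rw [hX, commutatorElement_eq_one_iff_mul_comm.2 e]; exact one_mem _
  have hX2 : ∀ {x g}, x ∈ X g → g ∈ X x := fun e => mem_cent_comm e
  have h2 : pCore p G ≤ X b := le_of_relIndex_dvd_prime h.hp h1
    (fun x hx => hX1 (mem_center_iff.1 hx.1 b).symm) hz ((hX z b).2 (mem_zpowers _)) hzZ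
  have h3 : ∀ g, pCore p G ≤ X g → b ∈ X g → (P : Subgroup G) ≤ X g := fun g h3 h4 =>
    le_of_relIndex_dvd_prime h.hp hrel
      (fun x hx => h3 (h.mem_M_of hx.1 (orderOf_of_mem P.2 hx.2))) hbP h4 hb
  have h4 : ⁅(P : Subgroup G), (P : Subgroup G)⁆ = zpowers ⁅z, b⁆ := by
    refine le_antisymm (commutator_le.2 fun x hx g hg => (hX x g).1 (h3 g (fun a ha => hX2 ?_)
      (hX2 (h3 b h2 (hX1 rfl) hg)) hx))
      (zpowers_le.2 (commutator_mem_commutator (hMP hz) hbP))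
    exact h3 a (fun c hc => hX1 (h.M_ab hc ha)) (hX2 (h2 ha)) hg
  rw [← card_map_of_injective (P : Subgroup G).subtype_injective, map_subtype_commutator, h4,
    Nat.card_zpowers, hc1]

end Good

theorem exists_good {m n : ℕ} (h : NF G m n) (hm : 1 < m) (hc : m.Coprime n)
    (hx : ∃ x : G, ix x = m) (hy : ∃ y : G, ix y = m * n) : ∃ N w, Good G m n m N w := by
  obtain ⟨p, hp, h1, w, hw, hwm⟩ := exists_small_p h hm hc hx hy
  have := Fact.mk hp
  obtain ⟨a, ha⟩ := exists_pow_of_forall_prime hp (by omega) h1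
  have hpm : p ∣ m := ha ▸ dvd_pow_self p fun e => by simp [ha, e] at hm
  have hpn : ¬ p ∣ n := fun e => hp.one_lt.ne' (Nat.eq_one_of_dvd_coprimes hc hpm e)
  obtain ⟨N, hN, h2, h3⟩ := PCompl.hnpc_exists_normal (Cfsg.Agent.S4127.result p a
    (fun g hd => hpn (by
      have h2 : ix g ∣ m * n := by
        by_cases e : g ∈ center G
        · rw [Frob.index_centralizer_eq_one_iff.2 e]; exact one_dvd _
        · rcases h.idx g e with e | e <;> rw [e]
          exact dvd_mul_right _ _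
      have h3 := hd.trans h2
      rwa [ha, pow_succ, Nat.mul_dvd_mul_iff_left (pow_pos hp.pos a)] at h3))
    ⟨w, hw, hwm.trans ha⟩)
  have hG : Good G m n p N w := ⟨h, hp, hpm, hpn, ⟨a, ha⟩, hN, h2, h3, hw, hwm, hy⟩
  exact ⟨N, w, hG.m_eq.symm ▸ hG⟩

end CfsgLib.Rk2
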