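import Cfsg.Agent.Lib.Rk2.NonF
import Cfsg.Agent.Lib.Part.Basic
import Cfsg.Agent.Lib.CoprimeGen

/-! Groups with three class sizes are solvable (Itô). -/

set_option autoImplicit false

namespace CfsgLib.Rk2

open Subgroup Cfsg CfsgLib.H5.TwoCls CfsgLib.BSW

variable {G : Type*} [Group G] [Finite G]

local notation "ix" g:max => Subgroup.index (centralizer ({g} : Set G))

theorem sup_zpowers {r : ℕ} {z b : G} (hz : orderOf z = r) (hb : b ^ r = 1)
    (hc : Commute z b) (hbz : b ∉ zpowers z) :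
    IsMulCommutative (zpowers z ⊔ zpowers b : Subgroup G) ∧
      ¬ IsCyclic (zpowers z ⊔ zpowers b : Subgroup G) ∧
      ∀ a ∈ zpowers z ⊔ zpowers b, a ^ r = 1 := by
  have hn : zpowers z ≤ normalizer (zpowers b : Set G) := zpowers_le.2
    (centralizer_le_normalizer _ (by rw [centralizer_zpowers']; exact mem_cent.2 hc.eq))
  have h1 : ∀ a ∈ zpowers z ⊔ zpowers b, ∃ i j : ℤ, z ^ i * b ^ j = a := fun a ha => by
    obtain ⟨_, ⟨i, rfl⟩, _, ⟨j, rfl⟩, e⟩ := (mem_sup_iff_of_le_normalizer hn).1 ha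
    exact ⟨i, j, e⟩
  have h2 : ∀ a ∈ zpowers z ⊔ zpowers b, a ^ r = 1 := fun a ha => by
    obtain ⟨i, j, rfl⟩ := h1 a ha
    rw [(hc.zpow_zpow i j).mul_pow, ← zpow_natCast, ← zpow_natCast, ← zpow_mul, ← zpow_mul,
      mul_comm i, mul_comm j, zpow_mul, zpow_mul, zpow_natCast, zpow_natCast, hb, ← hz,
      pow_orderOf_eq_one]
    simp
  refine ⟨BSW.isMulCommutative_iff'.2 fun a ha c hc' => ?_, fun hcyc => hbz ?_, h2⟩
  · obtain ⟨i, j, rfl⟩ := h1 a ha
    obtain ⟨k, l, rfl⟩ := h1 c hc'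
    exact (((Commute.refl z).zpow_zpow i k).mul_right (hc.zpow_zpow i l)).mul_left
      ((hc.symm.zpow_zpow j k).mul_right ((Commute.refl b).zpow_zpow j l))
  · obtain ⟨g, hg⟩ := hcyc.exists_generator
    have h3 : Nat.card (zpowers z ⊔ zpowers b : Subgroup G) ≤ Nat.card (zpowers z) := by
      rw [← orderOf_eq_card_of_forall_mem_zpowers hg, Nat.card_zpowers, hz]
      exact Nat.le_of_dvd (hz ▸ orderOf_pos z)
        (orderOf_dvd_of_pow_eq_one (Subtype.ext (h2 g g.2)))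
    rw [eq_of_le_of_card_ge le_sup_left h3]
    exact mem_sup_right (mem_zpowers b)

theorem solvable_of_part (π : Part.Part G) {x₀ : G} {p r₀ r₁ : ℕ} (hp : p.Prime) (hr₀ : r₀.Prime)
    (hr₁ : r₁.Prime) (h01 : r₀ ≠ r₁) (hK : IsMulCommutative (π.c x₀))
    (hpK : ¬ p ∣ Nat.card (π.c x₀)) (h0 : r₀ ∣ Nat.card (π.c x₀)) (h1 : r₁ ∣ Nat.card (π.c x₀))
    (hi0 : r₀ ∣ (π.c x₀).index) (hi : ∀ r : ℕ, r.Prime → r ∣ (π.c x₀).index → r = p ∨ r = r₀)
    (hall : ∀ g : G, (∃ k, orderOf g = p ^ k) ∨ ∃ y : G, y * g * y⁻¹ ∈ π.c x₀) :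
    Group.IsSolvable G := by
  set K := π.c x₀ with hKdef
  have hcomm := BSW.isMulCommutative_iff'.1 hK
  have hp0 : r₀ ≠ p := fun e => hpK (e ▸ h0)
  have hconj : ∀ {r : ℕ}, r.Prime → r ≠ p → ∀ {g : G} {k : ℕ}, g ≠ 1 → orderOf g = r ^ k →
      ∃ y : G, y * g * y⁻¹ ∈ K := fun hr hrp g k hg hk => (hall g).resolve_left fun ⟨j, hj⟩ =>
    hg (orderOf_eq_one_iff.1 (Nat.eq_one_of_dvd_coprimes (Nat.coprime_pow_primes _ _ hr hp hrp)
      hk.dvd hj.dvd))
  obtain ⟨z, hzK, hz, hzi⟩ : ∃ z ∈ K, orderOf z = r₀ ∧ ¬ r₀ ∣ ix z := by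
    obtain ⟨z, hz, hzi⟩ := exists_order_not_dvd_cidx hr₀ (h0.trans (card_subgroup_dvd_card K))
    obtain ⟨y, hy⟩ := hconj hr₀ hp0 (ne_one_of_orderOf_prime hr₀ hz) (k := 1) (by rw [hz, pow_one])
    exact ⟨_, hy, by rw [Frob.orderOf_conj_eq, hz], by rwa [Frob.index_centralizer_conj]⟩
  have hz1 := ne_one_of_orderOf_prime hr₀ hz
  have hKz : K ≤ centralizer {z} := fun k hk => mem_cent.2 (hcomm k hk z hzK)
  obtain ⟨b, hbz, -, hbK⟩ := H5.exists_primePow_notMem_of_dvd_relIndex (C := K)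
    (N := centralizer {z}) hr₀ ((hr₀.dvd_mul.1 (by rwa [relIndex_mul_index hKz])).resolve_right hzi)
  have hb := (Part.Part.order_of_comm hzK hz1 hbK (mem_cent.1 hbz)).2.trans hz
  have hrad := Chr.mem_solvableRadical_of_class_prime_pow hp (x := z)
    (exists_pow_of_forall_prime hp index_ne_zero_of_finite fun r hr hd =>
      (hi r hr (hd.trans (index_dvd_of_le hKz))).resolve_right fun e => hzi (e ▸ hd))
  obtain ⟨r, hr, hO⟩ : ∃ r : ℕ, r.Prime ∧ pCore r G ≠ ⊥ := by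
    by_contra! h
    rw [solvableRadical_eq_bot_iff.2 (fitting_eq_bot_iff.2 fun r hr => h r hr.out)] at hrad
    exact hz1 hrad
  have := Fact.mk hr
  have hOp : ∀ v ∈ pCore r G, ∃ k, orderOf v = r ^ k := fun v hv => by
    obtain ⟨k, hk⟩ := IsPGroup.iff_orderOf.1 (pCore_isPGroup r) ⟨v, hv⟩
    exact ⟨k, by rw [← hk, orderOf_mk]⟩
  by_cases hrp : r = p
  · exfalso
    subst hrp
    obtain ⟨h2, h3, h4⟩ := sup_zpowers hz (b := b) (by rw [← hb, pow_orderOf_eq_one])
      (mem_cent.1 hbz).symm fun e => hbK (zpowers_le.2 hzK e)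
    have := Fact.mk hr₀
    obtain ⟨a, ha, ha1, h5⟩ := Cop.exists_centralizer_ne_bot_of_not_isCyclic h2 h3
      (G := pCore r G) le_normalizer_of_normal (IsPGroup.coprime_card_of_ne r₀ r hp0 _ _
        (fun a => ⟨1, Subtype.ext (by rw [pow_one]; exact h4 a a.2)⟩) (pCore_isPGroup r)) hO
    obtain ⟨⟨v, hv, hva⟩, hv1⟩ := ne_bot_iff_exists_ne_one.1 h5
    have ha2 : orderOf a = r₀ := orderOf_eq_prime (h4 a ha) ha1
    obtain ⟨y, hy⟩ := hconj hr₀ hp0 ha1 (k := 1) (by rw [ha2, pow_one])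
    obtain ⟨k, hk⟩ := hOp v hv
    have h6 : y * v * y⁻¹ ∈ K := Part.Part.mem_of_comm hy (conj_ne_one ha1)
      (mem_cent.1 (conj_mem_cent hva)) (by
        rw [Frob.orderOf_conj_eq, Frob.orderOf_conj_eq, hk, ha2]
        exact fun e => hp0 (((Nat.Prime.pow_eq_iff hr₀).1 e).1).symm)
    have h7 := orderOf_dvd_natCard _ h6
    rw [Frob.orderOf_conj_eq] at h7
    exact hv1 (Subtype.ext (orderOf_eq_one_iff.1 (Nat.eq_one_of_dvd_coprimes
      ((hp.coprime_iff_not_dvd.2 hpK).pow_left k) hk.dvd h7)))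
  obtain ⟨⟨w, hw, hwc⟩, hw1⟩ := ne_bot_iff_exists_ne_one.1 (inf_centralizer_ne_bot_of_isNilpotent
    (pCore_isPGroup (G := G) r).isNilpotent le_rfl le_normalizer hO)
  replace hw1 : w ≠ 1 := fun e => hw1 (Subtype.ext e)
  obtain ⟨k, hk⟩ := hOp w hw
  obtain ⟨y, hy⟩ := hconj hr hrp hw1 hk
  obtain ⟨r', hr', hrr', hd⟩ : ∃ r' : ℕ, r'.Prime ∧ r ≠ r' ∧ r' ∣ Nat.card K := by
    by_cases e : r = r₀
    exacts [⟨r₁, hr₁, e ▸ h01, h1⟩, ⟨r₀, hr₀, e, h0⟩]
  have := Fact.mk hr'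
  obtain ⟨⟨t, htK⟩, ht⟩ := exists_prime_orderOf_dvd_card' r' hd
  rw [orderOf_mk] at ht
  have hle : pCore r G ≤ K := fun v hv => by
    have h2 : v ∈ normalizer (K : Set G) := Part.Part.mem_norm_of_comm hy (conj_ne_one hw1) (by
      have h3 := mem_centralizer_iff.1 hwc (y⁻¹ * v * y)
        (by simpa using Normal.conj_mem inferInstance v hv y⁻¹)
      calc v * (y * w * y⁻¹) = y * (y⁻¹ * v * y * w) * y⁻¹ := by group
        _ = _ := by rw [h3]; group)
    have h3 := conj_mem_of_mem_normalizer h2 htK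
    have h4 : (v * t * v⁻¹ * t⁻¹) ^ r' = 1 := by
      rw [Commute.mul_pow (hcomm _ h3 _ (inv_mem htK)), conj_pow, inv_pow, ← ht,
        pow_orderOf_eq_one]
      simp
    have h5 : v * t * v⁻¹ * t⁻¹ ∈ pCore r G := by
      rw [mul_assoc, mul_assoc, ← mul_assoc t]
      exact mul_mem hv (Normal.conj_mem inferInstance _ (inv_mem hv) t)
    have h6 := H5.eq_one_of_mem_of_coprime (pCore_isPGroup r) h5
      (((Nat.coprime_primes hr' hr).2 hrr'.symm).coprime_dvd_left (orderOf_dvd_of_pow_eq_one h4))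
    rw [mul_inv_eq_one, mul_inv_eq_iff_eq_mul] at h6
    obtain ⟨j, hj⟩ := hOp v hv
    exact Part.Part.mem_of_comm htK (ne_one_of_orderOf_prime hr' ht) h6 (by
      rw [hj, ht]
      exact fun e => hrr' ((Nat.Prime.pow_eq_iff hr').1 e).1)
  have := Part.Part.normal_of_le hO hle
  exact isSolvable_of_normal_of_quotient K isSolvable_of_isMulCommutative
    (isSolvable_of_two_primes hp hr₀ hi)

local notation "rx" g:max => Subgroup.relIndex (center G) (centralizer ({g} : Set G))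

theorem solvable_of_quot (h : Group.IsSolvable (G ⧸ center G)) : Group.IsSolvable G :=
  isSolvable_of_normal_of_quotient (center G) isSolvable_of_isMulCommutative h

theorem rx_congr {x y : G} (h : ix x = ix y) : rx x = rx y :=
  Nat.eq_of_mul_eq_mul_right (Nat.pos_of_ne_zero (index_ne_zero_of_finite (H := centralizer {y})))
    (by rw [relIndex_center_mul y, ← h, relIndex_center_mul x])

variable (G) in
/-- no proper inclusions between centralizers of noncentral elements -/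
def IsF : Prop := ∀ x y : G, y ∉ center G → centralizer ({x} : Set G) ≤ centralizer {y} →
  centralizer ({x} : Set G) = centralizer {y}

namespace IsF

variable (hF : IsF G)
include hF

theorem le_of_coprime {x u : G} (hx : x ∉ center G) (hu : u ∈ centralizer ({x} : Set G))
    (hc : (orderOf u).Coprime (orderOf x)) : centralizer ({x} : Set G) ≤ centralizer {u} := by
  have h1 := Frob.centralizer_mul_of_coprime (mem_cent.1 hu) hc
  rw [← hF _ x hx (h1.le.trans inf_le_right)]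
  exact h1.le.trans inf_le_left

theorem comm_of_two {x : G} (hx : x ∉ center G) {r s : ℕ} (hr : r.Prime) (hs : s.Prime)
    (hrs : r ≠ s) (hrd : r ∣ rx x) (hsd : s ∣ rx x) :
    IsMulCommutative (centralizer ({x} : Set G)) := by
  obtain ⟨y, hy, p, j, hp, hj, hyZ⟩ := exists_part hx
  rw [hF x y hyZ (Frob.centralizer_le_centralizer_of_mem_zpowers hy)] at hrd hsd ⊢
  obtain ⟨t, ht, htp, htd⟩ : ∃ t : ℕ, t.Prime ∧ t ≠ p ∧ t ∣ rx y := by
    by_cases e : r = p
    exacts [⟨s, hs, e ▸ hrs.symm, hsd⟩, ⟨r, hr, e, hrd⟩]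
  obtain ⟨w, hw, ⟨k, hk⟩, hwZ⟩ := H5.exists_primePow_notMem_of_dvd_relIndex ht htd
  have h1 := hF y w hwZ (hF.le_of_coprime hyZ hw
    (by rw [hk, hj]; exact Nat.coprime_pow_primes _ _ ht hp htp))
  have h2 : centralizer ({y} : Set G) ≤ centralizer (centralizer ({y} : Set G) : Set G) := by
    refine le_of_forall_primePow_mem fun u hu c l hc hl => mem_centralizer_iff.2 fun g hg => ?_
    by_cases e : c = p
    · exact mem_cent.1 (hF.le_of_coprime hwZ (h1 ▸ hu)
        (by rw [hk, hl]; exact Nat.coprime_pow_primes _ _ hc ht (e ▸ htp.symm)) (h1 ▸ hg))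
    · exact mem_cent.1 (hF.le_of_coprime hyZ hu
        (by rw [hj, hl]; exact Nat.coprime_pow_primes _ _ hc hp e) hg)
  exact BSW.isMulCommutative_iff'.2 fun a ha b hb => mem_centralizer_iff.1 (h2 hb) a ha

omit [Finite G] in
theorem cent_eq {x a : G} (hc : IsMulCommutative (centralizer ({x} : Set G)))
    (ha : a ∈ centralizer ({x} : Set G)) (haZ : a ∉ center G) :
    centralizer ({a} : Set G) = centralizer {x} :=
  (hF x a haZ fun g hg => mem_cent.2 (BSW.isMulCommutative_iff'.1 hc g hg a ha)).symm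

theorem one_prime {x : G} (hc : IsMulCommutative (centralizer ({x} : Set G))) {t u : ℕ}
    (ht : t.Prime) (hu : u.Prime) (htu : t ≠ u) (h1 : t ∣ rx x) (h2 : u ∣ rx x) (h3 : t ∣ ix x)
    (h4 : u ∣ ix x) : False := by
  have key : ∀ {r : ℕ}, r.Prime → r ∣ rx x →
      ∃ a ∈ centralizer ({x} : Set G), a ∉ center G ∧ ∃ k, a ^ r ^ k = 1 := fun hr hd => by
    obtain ⟨a, ha, ⟨k, hk⟩, haZ⟩ := H5.exists_primePow_notMem_of_dvd_relIndex hr hd
    exact ⟨a, ha, haZ, k, hk ▸ pow_orderOf_eq_one a⟩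
  exact false_of_two_primes (S := Set.univ) (fun _ _ _ => trivial) (fun _ => by simp)
    (fun a ha haZ => hF.cent_eq hc ha haZ) ht hu htu h3 h4 (key ht h1) (key hu h2)

theorem exists_conj {x y : G} (hx : x ∉ center G) {r s : ℕ} (hr : r.Prime) (hs : s.Prime)
    (hrs : r ≠ s) (hrd : r ∣ rx x) (hsd : s ∣ rx x) (hy : ix y = ix x) :
    ∃ g : G, g * y * g⁻¹ ∈ centralizer ({x} : Set G) := by
  have hc := hF.comm_of_two hx hr hs hrs hrd hsd
  have hyZ : y ∉ center G := fun e => hx (Frob.index_centralizer_eq_one_iff.1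
    (hy ▸ Frob.index_centralizer_eq_one_iff.2 e))
  have hc' := hF.comm_of_two hyZ hr hs hrs (rx_congr hy ▸ hrd) (rx_congr hy ▸ hsd)
  obtain ⟨t, ht, h1, h2⟩ : ∃ t : ℕ, t.Prime ∧ t ∣ rx x ∧ ¬ t ∣ ix x := by
    by_contra! h
    exact hF.one_prime hc hr hs hrs hrd hsd (h r hr hrd) (h s hs hsd)
  obtain ⟨w, hw, ⟨k, hk⟩, hwZ⟩ := H5.exists_primePow_notMem_of_dvd_relIndex ht h1
  obtain ⟨g, hg⟩ := exists_conj_mem_of_not_dvd ht (hy ▸ h2) hk
  have h3 := conj_mem_cent (g := g⁻¹) (mem_cent_comm hg)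
  rw [show g⁻¹ * (g * w * g⁻¹) * g⁻¹⁻¹ = w by group, hF.cent_eq hc hw hwZ] at h3
  exact ⟨g⁻¹, h3⟩

theorem solvable_of_norm {x : G} (hx : x ∉ center G)
    (hc : IsMulCommutative (centralizer ({x} : Set G)))
    (hn : normalizer ((centralizer ({x} : Set G) : Subgroup G) : Set G) ≤ centralizer {x}) :
    Group.IsSolvable G := by
  have hm : ∀ g : G, QuotientGroup.mk' (center G) g ∈
      (centralizer ({x} : Set G)).map (QuotientGroup.mk' (center G)) ↔
        g ∈ centralizer ({x} : Set G) := fun g => by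
    rw [← mem_comap, comap_map_eq_self (by rw [QuotientGroup.ker_mk']; exact center_le_centralizer _)]
  refine solvable_of_quot (isSolvable_of_complement_solvable
    (H := (centralizer ({x} : Set G)).map (QuotientGroup.mk' (center G)))
    (Frob.isFrobeniusComplement_iff.2 ⟨fun e => hx ?_, fun e => hx ?_, fun g hg y hy e => ?_⟩)
    (isSolvable_map isSolvable_of_isMulCommutative _))
  · exact (QuotientGroup.eq_one_iff x).1 (e.le ((hm x).2 (self_mem_cent x)))
  · exact Frob.centralizer_singleton_eq_top_iff.1 (eq_top_iff.2 fun g _ =>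
      (hm g).1 (e.ge (mem_top _)))
  · obtain ⟨g, rfl⟩ := QuotientGroup.mk'_surjective (center G) g
    obtain ⟨y, rfl⟩ := QuotientGroup.mk'_surjective (center G) y
    rw [← map_inv, ← map_mul, ← map_mul, hm] at e
    rw [hm] at hg hy
    by_contra hy1
    have hyZ : y ∉ center G := fun e => hy1 ((QuotientGroup.eq_one_iff y).2 e)
    have h1 := hF.cent_eq hc e (conj_notMem_center hyZ)
    rw [Frob.centralizer_conj_singleton, hF.cent_eq hc hy hyZ] at h1
    exact hg (hn (mem_normalizer_of_map_conj_eq h1))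

omit [Finite G] in
theorem exists_part' : ∃ π : Part.Part (G ⧸ center G), ∀ x : G, π.c (x : G ⧸ center G) =
    (centralizer (centralizer ({x} : Set G) : Set G)).map (QuotientGroup.mk' (center G)) := by
  have h1 : ∀ x y : G, (x : G ⧸ center G) = y → centralizer ({x} : Set G) = centralizer {y} :=
    fun x y e => by
      rw [← H5.centralizer_mul_of_mem_center (v := x) ((QuotientGroup.eq.1 e)),
        ← mem_center_iff.1 (QuotientGroup.eq.1 e) x, mul_inv_cancel_left]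
  let c : G ⧸ center G → Subgroup (G ⧸ center G) := fun x =>
    (centralizer (centralizer ({x.out} : Set G) : Set G)).map (QuotientGroup.mk' (center G))
  have hc : ∀ x : G, c (x : G ⧸ center G) =
      (centralizer (centralizer ({x} : Set G) : Set G)).map (QuotientGroup.mk' (center G)) :=
    fun x => by simp only [c, h1 _ x (Quotient.out_eq _)]
  refine ⟨⟨c, fun x => ?_, fun {x y} hy h => ?_, fun g x y h => ?_⟩, hc⟩
  · obtain ⟨x, rfl⟩ := QuotientGroup.mk_surjective x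
    rw [hc]
    exact ⟨x, mem_centralizer_iff.2 fun g hg => mem_cent.1 hg, rfl⟩
  · obtain ⟨x, rfl⟩ := QuotientGroup.mk_surjective x
    rw [hc] at h
    obtain ⟨y, hy', rfl⟩ := h
    rw [QuotientGroup.mk'_apply, hc, hc, hF x y (fun e => hy ((QuotientGroup.eq_one_iff y).2 e))
      fun g hg => mem_cent.2 (mem_centralizer_iff.1 hy' g hg)]
  · obtain ⟨x, rfl⟩ := QuotientGroup.mk_surjective x
    obtain ⟨g, rfl⟩ := QuotientGroup.mk_surjective g
    rw [hc] at h
    obtain ⟨y, hy', rfl⟩ := h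
    rw [← QuotientGroup.mk_inv, ← QuotientGroup.mk_mul, ← QuotientGroup.mk_mul, hc,
      Frob.centralizer_conj_singleton, centralizer_map_conj]
    exact ⟨g * y * g⁻¹, ⟨y, hy', rfl⟩, rfl⟩

theorem solvable_of_two {a b : ℕ} (h : ∀ x ∉ center G, ix x = a ∨ ix x = b) {x : G}
    (hx : x ∉ center G) (hxa : ix x = a) {r s : ℕ} (hr : r.Prime) (hs : s.Prime) (hrs : r ≠ s)
    (hrd : r ∣ rx x) (hsd : s ∣ rx x) : Group.IsSolvable G := by
  have hc := hF.comm_of_two hx hr hs hrs hrd hsd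
  have hA : ∀ g : G, g ∈ center G ∨ ix g = a → ∃ y : G, y * g * y⁻¹ ∈ centralizer ({x} : Set G) := by
    rintro g (hg | hg)
    · exact ⟨1, by simpa using center_le_centralizer _ hg⟩
    · exact hF.exists_conj hx hr hs hrs hrd hsd (hg.trans hxa.symm)
  by_cases hv : ∃ p : ℕ, p.Prime ∧ ∀ y ∉ center G, ix y ≠ a → ∀ t : ℕ, t.Prime → t ∣ rx y → t = p
  swap
  · push Not at hv
    obtain ⟨y, hy, hya, t, ht, htd, -⟩ := hv 2 Nat.prime_two
    obtain ⟨y', hy', hya', u, hu, hud, hut⟩ := hv t ht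
    have hyb := (h y hy).resolve_left hya
    rw [rx_congr (((h y' hy').resolve_left hya').trans hyb.symm)] at hud
    refine (normalizer_le_or_of_cover (A := centralizer {x}) (B := centralizer {y})
      fun g => ?_).elim (hF.solvable_of_norm hx hc)
        (hF.solvable_of_norm hy (hF.comm_of_two hy ht hu hut.symm htd hud))
    by_cases hg : g ∈ center G ∨ ix g = a
    · exact Or.inl (hA g hg)
    · push Not at hg
      exact Or.inr (hF.exists_conj hy ht hu hut.symm htd hud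
        (((h g hg.1).resolve_left hg.2).trans hyb.symm))
  obtain ⟨p, hp, hv⟩ := hv
  have hB : ∀ g : G, ¬ (g ∈ center G ∨ ix g = a) → ∃ k, orderOf (g : G ⧸ center G) = p ^ k :=
    fun g hg => by
      push Not at hg
      refine exists_pow_of_forall_prime hp (orderOf_pos _).ne' fun t ht hd =>
        hv g hg.1 hg.2 t ht (hd.trans ?_)
      rw [← card_map_mk'_eq_relIndex]
      exact orderOf_dvd_natCard _ (mem_map_of_mem (QuotientGroup.mk' (center G)) (self_mem_cent g))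
  refine solvable_of_quot ?_
  have ha1 : a ≠ 1 := fun e => hx (Frob.index_centralizer_eq_one_iff.1 (hxa.trans e))
  obtain ⟨t, ht, hta⟩ := Nat.exists_prime_and_dvd ha1
  by_cases h1 : ∀ u : ℕ, u.Prime → u ∣ a → u = t
  · refine isSolvable_of_radical_or_primePow hp fun g => ?_
    obtain ⟨g, rfl⟩ := QuotientGroup.mk_surjective g
    refine or_iff_not_imp_right.2 fun h2 => ?_
    rcases not_not.1 (mt (hB g) h2) with hg | hg
    · rw [(QuotientGroup.eq_one_iff g).2 hg]; exact one_mem _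
    · exact Chr.mem_solvableRadical_of_class_prime_pow ht (exists_pow_of_forall_prime ht
        index_ne_zero_of_finite fun u hu hd =>
          h1 u hu (hd.trans (hg ▸ Frob.index_centralizer_mk_dvd _ g)))
  push Not at h1
  obtain ⟨u, hu, hua, hut⟩ := h1
  have h2 : ∀ t : ℕ, t.Prime → t ∣ a → t ≠ p → t ∣ rx x := fun t ht hd htp => by
    obtain ⟨w, ⟨k, hk⟩, hwZ⟩ := exists_notMem_center ht
      (hd.trans (hxa ▸ index_dvd_of_le (center_le_centralizer _)))
    have h3 := dvd_relIndex_center ht hk hwZ (self_mem_cent w)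
    have h4 : ix w = a := by
      by_contra e
      exact htp (hv w hwZ e t ht h3)
    exact rx_congr (h4.trans hxa.symm) ▸ h3
  have h3 : ∀ {t u : ℕ}, t.Prime → u.Prime → t ∣ a → u ∣ a → t ∣ rx x → u ∣ rx x → t = u :=
    fun ht hu h1 h2 h3 h4 => by
      by_contra e
      exact hF.one_prime hc ht hu e h3 h4 (hxa ▸ h1) (hxa ▸ h2)
  obtain ⟨r₀, hr₀, hra, hrp, hpa⟩ : ∃ r₀ : ℕ, r₀.Prime ∧ r₀ ∣ a ∧ r₀ ≠ p ∧ p ∣ a := by
    by_cases e : t = p
    · exact ⟨u, hu, hua, e ▸ hut, e ▸ hta⟩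
    · refine ⟨t, ht, hta, e, ?_⟩
      by_contra e'
      exact hut (h3 hu ht hua hta (h2 u hu hua fun e => e' (e ▸ hua)) (h2 t ht hta e))
  have h4 := h2 r₀ hr₀ hra hrp
  obtain ⟨r₁, hr₁, h01, h5⟩ : ∃ r₁ : ℕ, r₁.Prime ∧ r₀ ≠ r₁ ∧ r₁ ∣ rx x := by
    by_cases e : r₀ = r
    exacts [⟨s, hs, e ▸ hrs, hsd⟩, ⟨r, hr, e, hrd⟩]
  obtain ⟨π, hπ⟩ := hF.exists_part'
  have h6 : π.c (x : G ⧸ center G) =
      (centralizer ({x} : Set G)).map (QuotientGroup.mk' (center G)) := by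
    rw [hπ]
    congr 1
    exact le_antisymm (fun g hg => mem_cent.2 (mem_centralizer_iff.1 hg x (self_mem_cent x)).symm)
      fun g hg => mem_centralizer_iff.2 fun y hy => BSW.isMulCommutative_iff'.1 hc y hy g hg
  have h7 : Nat.card (π.c (x : G ⧸ center G)) = rx x := by rw [h6, card_map_mk'_eq_relIndex]
  have h8 : (π.c (x : G ⧸ center G)).index = a := by
    rw [h6, index_map_eq _ (QuotientGroup.mk'_surjective _)
      (by rw [QuotientGroup.ker_mk']; exact center_le_centralizer _), hxa]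
  refine solvable_of_part π (x₀ := x) hp hr₀ hr₁ h01 ?_
    (fun e => hrp (h3 hr₀ hp hra hpa h4 (h7 ▸ e))) (h7 ▸ h4) (h7 ▸ h5) (h8 ▸ hra)
    (fun c hc' hd => or_iff_not_imp_left.2 fun e =>
      h3 hc' hr₀ (h8 ▸ hd) hra (h2 c hc' (h8 ▸ hd) e) h4) fun g => ?_
  · rw [h6]
    refine BSW.isMulCommutative_iff'.2 ?_
    rintro _ ⟨y, hy, rfl⟩ _ ⟨z, hz, rfl⟩
    rw [← map_mul, ← map_mul, BSW.isMulCommutative_iff'.1 hc y hy z hz]
  · obtain ⟨g, rfl⟩ := QuotientGroup.mk_surjective g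
    refine or_iff_not_imp_left.2 fun h9 => ?_
    obtain ⟨y, hy⟩ := hA g (not_not.1 (mt (hB g) h9))
    exact ⟨y, h6 ▸ ⟨_, hy, rfl⟩⟩

end IsF

theorem isF_or_nf {a b : ℕ} (h : ∀ x ∉ center G, ix x = a ∨ ix x = b) :
    IsF G ∨ ∃ (x y : G) (n : ℕ), y ∉ center G ∧ centralizer ({x} : Set G) < centralizer {y} ∧
      ix x = ix y * n ∧ NF G (ix y) n := by
  refine or_iff_not_imp_left.2 fun hF => ?_
  unfold IsF at hF
  push Not at hF
  obtain ⟨x, y, hy, hle, hne⟩ := hF
  have h1 := relIndex_mul_index hle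
  have h2 : (centralizer ({x} : Set G)).relIndex (centralizer {y}) ≠ 1 := fun e =>
    hne (hle.antisymm (relIndex_eq_one.1 e))
  have h3 : (centralizer ({x} : Set G)).relIndex (centralizer {y}) ≠ 0 := index_ne_zero_of_finite
  have h4 : ix x ≠ ix y := fun e => hne (cent_eq_of_le hle e.symm)
  refine ⟨x, y, _, hy, lt_of_le_of_ne hle hne, h1.symm.trans (mul_comm _ _), by omega,
    fun g hg => ?_⟩
  rw [mul_comm, h1]
  have := h x (notMem_center_of_le hy hle)
  have := h y hy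
  have := h g hg
  omega

/-- **Itô.** A group with at most three class sizes is solvable. -/
theorem solvable_of_two_sizes {a b : ℕ} (h : ∀ x ∉ center G, ix x = a ∨ ix x = b) :
    Group.IsSolvable G := by
  have key : (∃ p q : ℕ, p.Prime ∧ q.Prime ∧ ∀ r : ℕ, r.Prime → r ∣ (center G).index →
      r = p ∨ r = q) → Group.IsSolvable G := fun ⟨p, q, hp, hq, h⟩ =>
    solvable_of_quot (isSolvable_of_two_primes hp hq h)
  rcases isF_or_nf h with hF | ⟨x, y, n, hy, hlt, -, hN⟩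
  swap
  · exact key (hN.two_primes hy hlt)
  by_cases h1 : ∃ x ∉ center G, ∃ r s : ℕ, r.Prime ∧ s.Prime ∧ r ≠ s ∧ r ∣ rx x ∧ s ∣ rx x
  · obtain ⟨x, hx, r, s, hr, hs, hrs, h1, h2⟩ := h1
    rcases h x hx with e | e
    · exact hF.solvable_of_two h hx e hr hs hrs h1 h2
    · exact hF.solvable_of_two (fun x hx => (h x hx).symm) hx e hr hs hrs h1 h2
  refine key ?_
  by_contra! h2
  have h3 : ∀ r : ℕ, r.Prime → r ∣ (center G).index → ∃ w ∉ center G, r ∣ rx w := fun r hr hd => by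
    obtain ⟨w, ⟨k, hk⟩, hw⟩ := exists_notMem_center hr hd
    exact ⟨w, hw, dvd_relIndex_center hr hk hw (self_mem_cent w)⟩
  have h4 : ∀ {r s : ℕ} {v w : G}, r.Prime → s.Prime → r ≠ s → v ∉ center G → r ∣ rx v →
      s ∣ rx w → ix v ≠ ix w := fun hr hs hrs hv h3 h4 e =>
    h1 ⟨_, hv, _, _, hr, hs, hrs, h3, rx_congr e ▸ h4⟩
  obtain ⟨r, hr, hrd, -⟩ := h2 2 2 Nat.prime_two Nat.prime_two
  obtain ⟨s, hs, hsd, hsr, -⟩ := h2 r r hr hr
  obtain ⟨t, ht, htd, htr, hts⟩ := h2 r s hr hs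
  obtain ⟨u, hu, hu'⟩ := h3 r hr hrd
  obtain ⟨v, hv, hv'⟩ := h3 s hs hsd
  obtain ⟨w, hw, hw'⟩ := h3 t ht htd
  have := h4 hs hr hsr hv hv' hu'
  have := h4 ht hr htr hw hw' hu'
  have := h4 ht hs hts hw hw' hv'
  have := h u hu
  have := h v hv
  have := h w hw
  omega

end CfsgLib.Rk2
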