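import Cfsg.Agent.Lib.Rk2.Basic

/-! Groups with class sizes `1, m, m n` and a proper inclusion between centralizers. -/

set_option autoImplicit false

namespace CfsgLib.Rk2

open Subgroup Cfsg CfsgLib.H5.TwoCls CfsgLib.BSW

variable {G : Type*} [Group G] [Finite G]

local notation "ix" g:max => Subgroup.index (centralizer ({g} : Set G))

theorem notMem_center_of_le {x y : G} (hx : x ∉ center G)
    (h : centralizer ({y} : Set G) ≤ centralizer {x}) : y ∉ center G := fun e =>
  hx (Frob.centralizer_singleton_eq_top_iff.1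
    (top_le_iff.1 (Frob.centralizer_singleton_eq_top_iff.2 e ▸ h)))

theorem exists_compl {H : Subgroup G} {s : ℕ} (hs : s.Prime)
    (h : ∀ u : H, (orderOf u).Coprime s → ∃ k, (centralizer ({u} : Set H)).index = s ^ k) :
    ∃ A ≤ H, IsMulCommutative A ∧ ¬ s ∣ Nat.card A ∧ ∃ k, Nat.card H = Nat.card A * s ^ k := by
  obtain ⟨A, h1, h2, k, hk⟩ := (Cfsg.Agent.S4034.result (G := H) hs).1 fun x hx => by
    obtain ⟨k, hk⟩ := h x hx
    exact ⟨k, (Frob.index_centralizer_eq_card_carrier x).symm.trans hk⟩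
  refine ⟨A.map H.subtype, map_subtype_le _, ?_, by rwa [card_subtype], k, by
    rw [card_subtype, ← hk, card_mul_index]⟩
  refine BSW.isMulCommutative_iff'.2 ?_
  rintro _ ⟨a, ha, rfl⟩ _ ⟨b, hb, rfl⟩
  exact congrArg Subtype.val (BSW.isMulCommutative_iff'.1 h1 a ha b hb)

variable (G) in
/-- the noncentral classes have size `m` or `m n` -/
structure NF (m n : ℕ) : Prop where
  hn : 1 < n
  idx : ∀ g : G, g ∉ center G → ix g = m ∨ ix g = m * n

namespace NF

variable {m n : ℕ} (h : NF G m n)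
include h

theorem small_of_dvd {z : G} (hz : z ∉ center G) (hd : ix z ∣ m) : ix z = m := by
  refine (h.idx z hz).resolve_right fun e => ?_
  have h0 : 0 < ix z := Nat.pos_of_ne_zero index_ne_zero_of_finite
  have h1 := h.hn
  rw [e] at hd h0
  have h2 : 0 < m := Nat.pos_of_mul_pos_right h0
  have := Nat.le_of_dvd h2 hd
  nlinarith

theorem eq_of_small {y z : G} (hy : ix y = m) (hz : z ∉ center G)
    (hle : centralizer ({y} : Set G) ≤ centralizer {z}) :
    centralizer ({y} : Set G) = centralizer {z} :=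
  cent_eq_of_le hle ((h.small_of_dvd hz (hy ▸ index_dvd_of_le hle)).trans hy.symm)

theorem eq_of_big {x z : G} (hxZ : x ∉ center G) (hx : ix x = m * n)
    (hle : centralizer ({z} : Set G) ≤ centralizer {x}) :
    centralizer ({z} : Set G) = centralizer {x} := by
  refine cent_eq_of_le hle (hx.trans ((h.idx z (notMem_center_of_le hxZ hle)).resolve_left
    fun e => ?_).symm)
  have h1 := h.small_of_dvd hxZ (e ▸ index_dvd_of_le hle)
  have h0 : 0 < ix x := Nat.pos_of_ne_zero index_ne_zero_of_finite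
  have := h.hn
  nlinarith

theorem rel {y u : G} (hyZ : y ∉ center G) (hy : ix y = m) (hu : u ∈ centralizer ({y} : Set G))
    (hc : (orderOf u).Coprime (orderOf y)) :
    (centralizer ({u} : Set G)).relIndex (centralizer {y}) = 1 ∨
      (centralizer ({u} : Set G)).relIndex (centralizer {y}) = n := by
  have h1 := Frob.centralizer_mul_of_coprime (mem_centralizer_singleton_iff.1 hu) hc
  have h2 : (centralizer ({u} : Set G)).relIndex (centralizer {y}) * m = ix (u * y) := by
    rw [h1, ← hy, ← inf_relIndex_right, relIndex_mul_index inf_le_right]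
  have h3 : 0 < m := hy ▸ Nat.pos_of_ne_zero index_ne_zero_of_finite
  refine (h.idx _ (notMem_center_of_le hyZ (h1.le.trans inf_le_right))).imp (fun e => ?_) fun e => ?_
  · exact Nat.eq_of_mul_eq_mul_right h3 (h2.trans (e.trans (one_mul m).symm))
  · exact Nat.eq_of_mul_eq_mul_right h3 (h2.trans (e.trans (mul_comm _ _)))

theorem rel' {y : G} {r j : ℕ} (hyZ : y ∉ center G) (hy : ix y = m) (hj : orderOf y = r ^ j)
    (u : centralizer ({y} : Set G)) (hc : (orderOf u).Coprime r) :
    (centralizer ({u} : Set (centralizer ({y} : Set G)))).index = 1 ∨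
      (centralizer ({u} : Set (centralizer ({y} : Set G)))).index = n := by
  rw [← Frob.centralizer_subgroupOf_singleton]
  exact h.rel hyZ hy u.2 (by rw [hj, Subgroup.orderOf_coe]; exact hc.pow_right j)

theorem card_of_compl {y : G} (hy : ix y = m) {s i a k : ℕ} (hs : s.Prime) (hi : n = s ^ i)
    (ha : ¬ s ∣ a) (hk : Nat.card (centralizer ({y} : Set G)) = a * s ^ k) (w : G)
    (hw : w ∉ center G) : ∃ k, Nat.card (centralizer ({w} : Set G)) = a * s ^ k := by
  have h1 := (centralizer ({y} : Set G)).card_mul_index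
  have h2 := (centralizer ({w} : Set G)).card_mul_index
  have h3 : 0 < m := hy ▸ Nat.pos_of_ne_zero index_ne_zero_of_finite
  rcases h.idx w hw with e | e
  · rw [e, ← h1, hy, hk] at h2
    exact ⟨k, Nat.eq_of_mul_eq_mul_right h3 h2⟩
  rw [e, ← h1, hy, hk, mul_comm m, ← mul_assoc, hi] at h2
  have h4 := Nat.eq_of_mul_eq_mul_right h3 h2
  obtain ⟨c, hc⟩ : a ∣ Nat.card (centralizer ({w} : Set G)) :=
    ((hs.coprime_iff_not_dvd.2 ha).symm.pow_right i).dvd_of_dvd_mul_right (h4 ▸ dvd_mul_right _ _)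
  have h5 : 0 < a := Nat.pos_of_ne_zero fun e => ha (e ▸ dvd_zero s)
  rw [hc, mul_assoc] at h4
  obtain ⟨j, -, hj⟩ := (Nat.dvd_prime_pow hs).1
    (Dvd.intro _ (Nat.eq_of_mul_eq_mul_left h5 h4) : c ∣ s ^ k)
  exact ⟨j, by rw [hc, hj]⟩

theorem two_primes_of_pow {y : G} (hy : ix y = m) {s : ℕ} (hs : s.Prime)
    (hi : ∀ t : ℕ, t.Prime → t ∣ n → t = s)
    (hc : ∀ u : centralizer ({y} : Set G), (orderOf u).Coprime s →
      (centralizer ({u} : Set (centralizer ({y} : Set G)))).index = 1 ∨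
      (centralizer ({u} : Set (centralizer ({y} : Set G)))).index = n) :
    ∃ p q : ℕ, p.Prime ∧ q.Prime ∧ ∀ r : ℕ, r.Prime → r ∣ (center G).index → r = p ∨ r = q := by
  obtain ⟨i, hi⟩ := exists_pow_of_forall_prime hs (by have := h.hn; omega) hi
  obtain ⟨A, -, h1, h2, k, hk⟩ := exists_compl hs fun u hu =>
    (hc u hu).elim (fun e => ⟨0, e⟩) fun e => ⟨i, e.trans hi⟩
  by_contra! hcon
  obtain ⟨t, ht, htd, hts, -⟩ := hcon s s hs hs
  obtain ⟨u, hu, hud, hus, hut⟩ := hcon s t hs ht
  exact false_of_compl h1 hs h2 (h.card_of_compl hy hs hi h2 hk) ht hu hut.symm hts hus htd hud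

theorem two_primes {x y : G} (hyZ : y ∉ center G)
    (hlt : centralizer ({x} : Set G) < centralizer {y}) :
    ∃ p q : ℕ, p.Prime ∧ q.Prime ∧ ∀ r : ℕ, r.Prime → r ∣ (center G).index → r = p ∨ r = q := by
  have hy : ix y = m := (h.idx y hyZ).resolve_right fun e => hlt.ne (h.eq_of_big hyZ e hlt.le)
  obtain ⟨y', hy', r, j, hr, hj, hyZ'⟩ := exists_part hyZ
  have e := h.eq_of_small hy hyZ' (Frob.centralizer_le_centralizer_of_mem_zpowers hy')
  rw [e] at hlt hy
  clear e hy' hyZ
  rename' y' => y, hyZ' => hyZ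
  have hxZ := notMem_center_of_le hyZ hlt.le
  have hx : ix x = m * n := (h.idx x hxZ).resolve_left fun e =>
    hlt.ne (cent_eq_of_le hlt.le (hy.trans e.symm))
  have hm : 0 < m := hy ▸ Nat.pos_of_ne_zero index_ne_zero_of_finite
  have hxy : (centralizer ({x} : Set G)).relIndex (centralizer {y}) = n := by
    have := relIndex_mul_index hlt.le
    rw [hy, hx, mul_comm m] at this
    exact Nat.eq_of_mul_eq_mul_right hm this
  have dich : ∀ {z : G} {r j : ℕ}, r.Prime → z ∉ center G → ix z = m → orderOf z = r ^ j → _ :=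
    fun {z r j} hr hzZ hz hj => dichotomy (G := centralizer ({z} : Set G)) hr fun u hu huZ =>
      (h.rel' hzZ hz hj u hu).resolve_left (mt Frob.index_centralizer_eq_one_iff.1 huZ)
  rcases dich hr hyZ hy hj with ⟨q, hq, hqr, h1⟩ | h1
  swap
  · exact h.two_primes_of_pow hy hr h1 (h.rel' hyZ hy hj)
  by_cases h2 : ∀ u ∈ centralizer ({y} : Set G), ∀ t k : ℕ, t.Prime → t ≠ r → t ≠ q →
      orderOf u = t ^ k → u ∈ center G
  · refine ⟨r, q, hr, hq, fun t ht hd => ?_⟩
    by_contra! hne
    obtain ⟨w, ⟨k, hk⟩, hwZ⟩ := exists_notMem_center ht hd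
    have h3 := dvd_relIndex_center ht hk hwZ (self_mem_cent w)
    have h4 : (center G).relIndex (centralizer {w}) ∣ (center G).relIndex (centralizer {y}) := by
      have h5 := relIndex_center_mul w
      rw [← relIndex_center_mul y, hy] at h5
      rcases h.idx w hwZ with e | e
      · rw [e] at h5
        exact (Nat.eq_of_mul_eq_mul_right hm h5).dvd
      · rw [e, mul_comm m, ← mul_assoc] at h5
        exact Dvd.intro _ (Nat.eq_of_mul_eq_mul_right hm h5)
    obtain ⟨u, hu, ⟨l, hl⟩, huZ⟩ := H5.exists_primePow_notMem_of_dvd_relIndex ht (h3.trans h4)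
    exact huZ (h2 u hu t l ht hne.1 hne.2 hl)
  push Not at h2
  obtain ⟨u, hu, t, k, ht, htr, htq, hk, huZ⟩ := h2
  have h3 : centralizer ({y} : Set G) = centralizer {u} := h.eq_of_small hy huZ fun g hg =>
    mem_cent.2 (congrArg Subtype.val (mem_center_iff.1
      (h1 ⟨u, hu⟩ t k ht htr htq (by rw [← hk, ← Subgroup.orderOf_coe])) ⟨g, hg⟩))
  have hu' : ix u = m := h3 ▸ hy
  rcases dich ht huZ hu' hk with ⟨q', hq', hqt, h4⟩ | h4
  swap
  · exact h.two_primes_of_pow hu' ht h4 (h.rel' huZ hu' hk)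
  rw [← h3] at h4
  have h5 : ∀ (v : centralizer ({y} : Set G)) (c l : ℕ), c.Prime → c ≠ q' → orderOf v = c ^ l →
      v ∈ center (centralizer ({y} : Set G)) := fun v c l hc hcq hl => by
    by_cases hct : c = t
    · exact h1 v c l hc (hct ▸ htr) (hct ▸ htq) hl
    · exact h4 v c l hc hct hcq hl
  refine h.two_primes_of_pow hy hq' (fun c hc hd => ?_) fun v hv => Or.inl ?_
  · by_contra hne
    obtain ⟨v, hv, ⟨l, hl⟩, hvx⟩ := H5.exists_primePow_notMem_of_dvd_relIndex hc (hxy ▸ hd)
    exact hvx (mem_cent.2 (congrArg Subtype.val (mem_center_iff.1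
      (h5 ⟨v, hv⟩ c l hc hne (by rw [← hl, ← Subgroup.orderOf_coe]))
        ⟨x, hlt.le (self_mem_cent x)⟩)).symm)
  · refine Frob.index_centralizer_eq_one_iff.2 (mem_of_forall_primePow_mem fun z hz c l hc hl => ?_)
    by_cases hcq : c = q'
    · have h6 : orderOf z = 1 := Nat.eq_one_of_dvd_coprimes (hv.pow_right l)
        (orderOf_dvd_of_mem_zpowers hz) (by rw [hl, hcq])
      rw [orderOf_eq_one_iff.1 h6]
      exact one_mem _
    · exact h5 z c l hc hcq hl

end NF

end CfsgLib.Rk2
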