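import Cfsg.Agent.Lib.Rk2.FCase
import Cfsg.Agent.Lib.CoprimeAut
import Cfsg.Agent.Lib.H9SylowNum
import Cfsg.Agent.Lib.H1Misc

/-! Auxiliary lemmas on second-centre elements. -/

set_option autoImplicit false

namespace CfsgLib.Rk2

open Subgroup Cfsg CfsgLib.H5.TwoCls CfsgLib.BSW
open scoped commutatorElement

variable {G : Type*} [Group G] [Finite G]

local notation "ix" g:max => Subgroup.index (centralizer ({g} : Set G))

theorem exists_pPart {p : ℕ} (hp : p.Prime) {D : Subgroup G} (hD : IsMulCommutative D) :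
    ∃ S ≤ D, IsPGroup p S ∧ (∀ x ∈ D, (∃ k, orderOf x = p ^ k) → x ∈ S) ∧
      normalizer (D : Set G) ≤ normalizer (S : Set G) := by
  have hc := BSW.isMulCommutative_iff'.1 hD
  let S : Subgroup G :=
    { carrier := {x | x ∈ D ∧ ∃ k, x ^ p ^ k = 1}
      one_mem' := ⟨one_mem _, 0, one_pow _⟩
      mul_mem' := by
        rintro a b ⟨ha, i, hi⟩ ⟨hb, j, hj⟩
        refine ⟨mul_mem ha hb, i + j, ?_⟩
        rw [Commute.mul_pow (hc a ha b hb), pow_add, pow_mul, hi, one_pow, mul_comm (p ^ i),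
          pow_mul, hj, one_pow, one_mul]
      inv_mem' := by
        rintro a ⟨ha, i, hi⟩
        exact ⟨inv_mem ha, i, by rw [inv_pow, hi, inv_one]⟩ }
  refine ⟨S, fun _ h => h.1, fun x => ?_, fun x hx ⟨k, hk⟩ => ⟨hx, k, hk ▸ pow_orderOf_eq_one x⟩,
    fun g hg => mem_normalizer_of_conj_mem fun x hx => ⟨conj_mem_of_mem_normalizer hg hx.1, ?_⟩⟩
  · obtain ⟨k, hk⟩ := x.2.2
    exact ⟨k, Subtype.ext hk⟩
  · obtain ⟨k, hk⟩ := hx.2
    exact ⟨k, by rw [conj_pow, hk]; simp⟩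

theorem orderOf_of_mem {p : ℕ} [Fact p.Prime] {S : Subgroup G} (hS : IsPGroup p S) {x : G}
    (hx : x ∈ S) : ∃ k, orderOf x = p ^ k := by
  obtain ⟨k, hk⟩ := IsPGroup.iff_orderOf.1 hS ⟨x, hx⟩
  exact ⟨k, by rw [← hk, orderOf_mk]⟩

theorem le_of_relIndex_dvd_prime {p : ℕ} (hp : p.Prime) {H K X : Subgroup G}
    (hd : K.relIndex H ∣ p) (hKX : K ⊓ H ≤ X) {z : G} (hzH : z ∈ H) (hzX : z ∈ X) (hzK : z ∉ K) :
    H ≤ X := by
  have h1 := relIndex_mul_relIndex (K ⊓ H) (X ⊓ H) H (le_inf hKX inf_le_right) inf_le_right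
  rw [inf_relIndex_right K, inf_relIndex_right X] at h1
  have h2 : (K ⊓ H).relIndex (X ⊓ H) ≠ 1 := fun e => hzK (relIndex_eq_one.1 e ⟨hzX, hzH⟩).1
  rw [← h1] at hd
  refine relIndex_eq_one.1 ?_
  rcases (Nat.dvd_prime hp).1 ((dvd_mul_right _ _).trans hd) with e | e
  · exact absurd e h2
  · rw [e] at hd
    exact Nat.dvd_one.1 (Nat.dvd_of_mul_dvd_mul_left hp.pos (by rwa [mul_one]))

omit [Finite G] in
theorem conj_eq_of_center {z g : G} (h : ⁅z, g⁆ ∈ center G) :
    ∃ c ∈ center G, g * z * g⁻¹ = c * z :=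
  ⟨⁅z, g⁆⁻¹, inv_mem h, by simp only [commutatorElement_def]; group⟩

omit [Finite G] in
theorem cent_conj_of_center {z g : G} (h : ⁅z, g⁆ ∈ center G) :
    g ∈ normalizer ((centralizer ({z} : Set G) : Subgroup G) : Set G) := by
  obtain ⟨c, hc, e⟩ := conj_eq_of_center h
  refine mem_normalizer_of_map_conj_eq ?_
  rw [← Frob.centralizer_conj_singleton, e, H5.centralizer_mul_of_mem_center hc]

/-- second-centre lemma -/
theorem relIndex_dvd_prime {p : ℕ} [hp : Fact p.Prime] {P W : Subgroup G} (hP : IsPGroup p P)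
    {z : G} (hz : z ^ p ∈ center G) (hzP : ∀ g ∈ P, ⁅z, g⁆ ∈ center G)
    (hW : (Nat.card W).Coprime p) (hPW : P ≤ normalizer (W : Set G))
    (h1 : ∀ g ∈ P, g ∈ centralizer ({z} : Set G) → g ∈ centralizer (W : Set G))
    (h2 : ∀ g ∈ P, g ∉ centralizer ({z} : Set G) → ∀ w ∈ W, g * w = w * g → w ∈ center G)
    (h3 : ¬ W ≤ center G) : (centralizer ({z} : Set G)).relIndex P ∣ p := by
  let f : P →* MulAut W := W.normalizerMonoidHom.comp (inclusion hPW)
  have hf : ∀ (g : P) (w : W), (f g w : G) = g * w * (g : G)⁻¹ := fun _ _ => rfl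
  have hker : f.ker = (centralizer ({z} : Set G)).subgroupOf P := by
    ext g
    rw [MonoidHom.mem_ker, mem_subgroupOf]
    refine ⟨fun h => ?_, fun h => MulEquiv.ext fun w => Subtype.ext ?_⟩
    · by_contra hg
      refine h3 fun w hw => h2 g g.2 hg w hw (mul_inv_eq_iff_eq_mul.1 ?_)
      rw [← hf g ⟨w, hw⟩, h]; rfl
    · rw [hf, ← mem_centralizer_iff.1 (h1 g g.2 h) w w.2, mul_inv_cancel_right]; rfl
  have hone : ∀ g : P, (g : G) * z = z * g → f.rangeRestrict g = 1 := fun g hg => by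
    rw [← MonoidHom.mem_ker, MonoidHom.ker_rangeRestrict, hker]
    exact mem_cent.2 hg
  have hcj : ∀ g ∈ P, z * g * z⁻¹ = ⁅z, g⁆ * g := fun g _ => by
    simp only [commutatorElement_def]; group
  have hab : IsMulCommutative f.range := ⟨⟨fun a b => by
    obtain ⟨a, rfl⟩ := f.rangeRestrict_surjective a
    obtain ⟨b, rfl⟩ := f.rangeRestrict_surjective b
    rw [← commutatorElement_eq_one_iff_mul_comm, ← map_commutatorElement]
    refine hone _ (mul_inv_eq_iff_eq_mul.1 ?_).symm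
    show z * ⁅(a : G), (b : G)⁆ * z⁻¹ = ⁅(a : G), (b : G)⁆
    rw [conjugate_commutatorElement, hcj a a.2, hcj b b.2]
    have ha := mem_center_iff.1 (hzP a a.2)
    have hb := mem_center_iff.1 (hzP b b.2)
    generalize ⁅z, (a : G)⁆ = c at ha
    generalize ⁅z, (b : G)⁆ = d at hb
    simp only [commutatorElement_def]
    calc c * a * (d * b) * (c * a)⁻¹ * (d * b)⁻¹
        = c * (a * d * b * (a : G)⁻¹) * c⁻¹ * (b : G)⁻¹ * d⁻¹ := by group
      _ = a * d * (b * (a : G)⁻¹ * (b : G)⁻¹) * d⁻¹ := by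
        rw [← ha, mul_inv_cancel_right]; group
      _ = _ := by rw [mul_assoc (a : G), ← hb]; group⟩⟩
  have hexp : ∀ a : f.range, a ^ p = 1 := fun a => by
    obtain ⟨a, rfl⟩ := f.rangeRestrict_surjective a
    rw [← map_pow]
    refine hone _ (mul_inv_eq_iff_eq_mul.1 ?_).symm
    have h4 := commutator_pow_eq (hzP a a.2) p
    rw [commutatorElement_eq_one_iff_mul_comm.2 (mem_center_iff.1 hz a).symm] at h4
    rw [SubgroupClass.coe_pow, ← conj_pow, hcj a a.2,
      Commute.mul_pow (mem_center_iff.1 (hzP a a.2) a).symm, ← h4, one_mul]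
  have hcyc : IsCyclic f.range := by
    by_contra hnc
    have h4 := CopAut.le_of_fixed_le_of_not_isCyclic (φ := f.range.subtype) hab hnc (H := ⊤)
      (K := (center G).subgroupOf W) (fun _ _ _ => mem_top _) (by
        rw [card_top]
        exact (Cop.coprime_card_of_isPGroup hW (P := P) hP).symm.coprime_dvd_left
          (card_dvd_of_surjective _ f.rangeRestrict_surjective)) fun a ha w _ hw => by
        obtain ⟨a, rfl⟩ := f.rangeRestrict_surjective a
        exact h2 a a.2 (fun e => ha (hone a (mem_cent.1 e))) w w.2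
          (mul_inv_eq_iff_eq_mul.1 (congrArg Subtype.val hw))
    exact h3 fun w hw => h4 (mem_top (⟨w, hw⟩ : W))
  obtain ⟨g, hg⟩ := hcyc.exists_generator
  rw [relIndex, ← hker, index_ker, ← orderOf_eq_card_of_forall_mem_zpowers hg]
  exact orderOf_dvd_of_pow_eq_one (hexp g)

theorem exists_second_center {p : ℕ} [Fact p.Prime] {P T : Subgroup G} (hP : IsPGroup p P)
    [T.Normal] (h : ¬ P ⊓ T ≤ center G) :
    ∃ z ∈ P, z ∈ T ∧ z ∉ center G ∧ z ^ p ∈ center G ∧ ∀ g ∈ P, ⁅z, g⁆ ∈ center G := by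
  obtain ⟨⟨z, hzP⟩, hzT, hzZ, h1, h2⟩ := PGrp.exists_central_mod_pow_mem hP
    ((center G).subgroupOf P) (T.subgroupOf P) fun hle => h fun x hx => hle (x := ⟨x, hx.1⟩) hx.2
  exact ⟨z, hzP, hzT, hzZ, h1, fun g hg => h2 ⟨g, hg⟩⟩

theorem pow_dvd_relIndex {p a : ℕ} [hp : Fact p.Prime] (P : Sylow p G) {D : Subgroup G}
    (h : p ^ a ∣ D.index) : p ^ a ∣ D.relIndex P := by
  have h1 := relIndex_mul_index (inf_le_right : D ⊓ P ≤ P)
  rw [inf_relIndex_right] at h1
  exact ((hp.out.coprime_iff_not_dvd.2 P.not_dvd_index).pow_left a).dvd_of_dvd_mul_right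
    (h1 ▸ h.trans (index_dvd_of_le inf_le_left))

end CfsgLib.Rk2
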